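/-
Products of two conjugates in GL₂, with conjugators of determinant one.

* `exists_sl_two_diag`: products of two SL₂-conjugates of a diagonal matrix;
* `exists_sl_conj`: matrices with the trace and determinant of an elliptic one are SL₂-conjugate to it;
* `exists_factor_odd`: in odd characteristic every matrix of determinant one is a product of two elements with
  determinant -1 and trace ±τ.
-/
import Cfsg.Agent.EqLemmas
import Cfsg.Agent.Lib.G2Thompson.GL2
import Mathlib.FieldTheory.Finite.Basic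

set_option autoImplicit false
set_option linter.unusedSectionVars false

open Matrix

namespace Cfsg.Agent.D4Thompson

open Cfsg.Agent.G2Thompson
open scoped MatrixGroups

variable {K : Type*} [Field K]

/-- An element of SL₂ as an element of GL₂. -/
def slGL : SL(2, K) →* GL (Fin 2) K := Matrix.SpecialLinearGroup.toGL

theorem det_slGL (S : SL(2, K)) : ((slGL S : GL (Fin 2) K) : Matrix (Fin 2) (Fin 2) K).det = 1 := S.2

theorem exists_sl_of_conj {A X P C : GL (Fin 2) K} (hP : A = P * X * P⁻¹) (hC : C * X = X * C)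
    (hdet : (C : Matrix (Fin 2) (Fin 2) K).det * (P : Matrix (Fin 2) (Fin 2) K).det = 1) :
    ∃ S : SL(2, K), A = slGL S * X * (slGL S)⁻¹ := by
  refine ⟨⟨((P * C : GL (Fin 2) K) : Matrix (Fin 2) (Fin 2) K), by
    rw [Units.val_mul, Matrix.det_mul, mul_comm, hdet]⟩, ?_⟩
  have e : slGL (⟨((P * C : GL (Fin 2) K) : Matrix (Fin 2) (Fin 2) K), by
      rw [Units.val_mul, Matrix.det_mul, mul_comm, hdet]⟩ : SL(2, K)) = P * C := Units.ext rfl
  rw [e, hP, _root_.mul_inv_rev, show P * C * X * (C⁻¹ * P⁻¹) = P * (C * X * C⁻¹) * P⁻¹ by group, hC, mul_inv_cancel_right]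

theorem exists_sl_conj_diag {A : GL (Fin 2) K} {a b : Kˣ} {P : GL (Fin 2) K} (hP : A = P * dgl a b * P⁻¹) :
    ∃ S : SL(2, K), A = slGL S * dgl a b * (slGL S)⁻¹ := by
  have hne : (P : Matrix (Fin 2) (Fin 2) K).det ≠ 0 := by
    intro h
    have := congrArg Matrix.det (Units.mul_inv P)
    rw [Matrix.det_mul, h, zero_mul, Matrix.det_one] at this
    exact zero_ne_one this
  refine exists_sl_of_conj hP (C := dgl (Units.mk0 _ hne)⁻¹ 1) (Units.ext ?_) ?_
  · ext i j; fin_cases i <;> fin_cases j <;> simp [dgl, Matrix.mul_apply, Fin.sum_univ_two, mul_comm]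
  · rw [show ((dgl (Units.mk0 _ hne)⁻¹ 1 : GL (Fin 2) K) : Matrix (Fin 2) (Fin 2) K).det =
      ((P : Matrix (Fin 2) (Fin 2) K).det)⁻¹ by simp [dgl, Matrix.det_fin_two_of], inv_mul_cancel₀ hne]

theorem exists_sl_two_diag {a b : Kˣ} (hab : a ≠ b) (h : (b : K) = -a ∨ (2 : K) = 0) {M : GL (Fin 2) K}
    (hM : (M : Matrix (Fin 2) (Fin 2) K).det = ((a : K) * b) ^ 2) :
    ∃ S T : SL(2, K), M = (slGL S * dgl a b * (slGL S)⁻¹) * (slGL T * dgl a b * (slGL T)⁻¹) := by
  obtain ⟨P, Q, e⟩ := exists_two_diag hab h hM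
  obtain ⟨S, hS⟩ := exists_sl_conj_diag (A := P * dgl a b * P⁻¹) rfl
  obtain ⟨T, hT⟩ := exists_sl_conj_diag (A := Q * dgl a b * Q⁻¹) rfl
  exact ⟨S, T, by rw [e, hS, hT]⟩

/-- The companion element of trace `τ` and determinant `d`. -/
def compX (τ : K) (d : Kˣ) : GL (Fin 2) K :=
  GeneralLinearGroup.mkOfDetNeZero !![0, -(d : K); 1, τ] (by simp [Matrix.det_fin_two])

theorem compX_val (τ : K) (d : Kˣ) : (compX τ d : Matrix (Fin 2) (Fin 2) K) = !![0, -(d : K); 1, τ] := rfl

theorem compX_tr_det (τ : K) (d : Kˣ) :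
    (compX τ d : Matrix (Fin 2) (Fin 2) K).trace = τ ∧ (compX τ d : Matrix (Fin 2) (Fin 2) K).det = d := by
  simp [compX_val, Matrix.trace_fin_two, Matrix.det_fin_two]

theorem nonScalar_of_noRoot {A : Matrix (Fin 2) (Fin 2) K} (h : ∀ x : K, x * x - A.trace * x + A.det ≠ 0) :
    G2Thompson.NonScalar A := by
  by_contra hn
  simp only [G2Thompson.NonScalar, not_or, not_not] at hn
  refine h (A 0 0) ?_
  rw [Matrix.trace_fin_two, Matrix.det_fin_two, hn.1, hn.2.1, ← hn.2.2]
  ring

theorem exists_sq_sub {a c : K} [Fintype K] (hodd : Fintype.card K % 2 = 1) (ha : a ≠ 0) :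
    ∃ w z : K, w * w + a * (z * z) = c := by
  obtain ⟨w, z, h⟩ := FiniteField.exists_root_sum_quadratic (f := Polynomial.X ^ 2 - Polynomial.C c)
    (g := Polynomial.C a * Polynomial.X ^ 2) (Polynomial.degree_X_pow_sub_C (by norm_num) _)
    (Polynomial.degree_C_mul_X_pow 2 ha) hodd
  refine ⟨w, z, ?_⟩
  simp at h
  linear_combination h

theorem exists_sl_conj [Fintype K] (hodd : Fintype.card K % 2 = 1) (h2 : (2 : K) ≠ 0) {τ : K} {d : Kˣ}
    (hirr : ∀ x : K, x * x - τ * x + d ≠ 0) {A : GL (Fin 2) K}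
    (ht : (A : Matrix (Fin 2) (Fin 2) K).trace = τ) (hd : (A : Matrix (Fin 2) (Fin 2) K).det = d) :
    ∃ S : SL(2, K), A = slGL S * compX τ d * (slGL S)⁻¹ := by
  obtain ⟨tX, dX⟩ := compX_tr_det τ d
  obtain ⟨P, hP⟩ := exists_conj_of_tr_det (nonScalar_of_noRoot (by rwa [ht, hd]))
    (nonScalar_of_noRoot (by rwa [tX, dX])) (ht.trans tX.symm) (hd.trans dX.symm)
  have hne : (P : Matrix (Fin 2) (Fin 2) K).det ≠ 0 := by
    intro h
    have := congrArg Matrix.det (Units.mul_inv P)
    rw [Matrix.det_mul, h, zero_mul, Matrix.det_one] at this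
    exact zero_ne_one this
  -- the centraliser `x + y X` has all determinants
  have hc : (d : K) - (τ / 2) ^ 2 ≠ 0 := fun h => hirr (τ / 2) (by
    field_simp at h ⊢
    linear_combination h)
  obtain ⟨w, y, hwy⟩ := exists_sq_sub (c := ((P : Matrix (Fin 2) (Fin 2) K).det)⁻¹) hodd hc
  set x := w - τ / 2 * y with hx
  have hCd : Matrix.det !![x, -(d : K) * y; y, x + τ * y] = ((P : Matrix (Fin 2) (Fin 2) K).det)⁻¹ := by
    rw [← hwy, Matrix.det_fin_two_of, hx]
    field_simp
    ring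
  refine exists_sl_of_conj hP
    (C := GeneralLinearGroup.mkOfDetNeZero !![x, -(d : K) * y; y, x + τ * y] (by rw [hCd]; exact inv_ne_zero hne))
    (Units.ext ?_) ?_
  · show !![x, -(d : K) * y; y, x + τ * y] * !![0, -(d : K); 1, τ] =
      !![0, -(d : K); 1, τ] * !![x, -(d : K) * y; y, x + τ * y]
    ext i j; fin_cases i <;> fin_cases j <;> simp [Matrix.mul_apply, Fin.sum_univ_two] <;> ring
  · show Matrix.det !![x, -(d : K) * y; y, x + τ * y] * _ = 1
    rw [hCd, inv_mul_cancel₀ hne]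

/-- The two classes used: trace `±τ`, determinant -1. -/
def Cls (τ : K) (M : GL (Fin 2) K) : Prop :=
  ((M : Matrix (Fin 2) (Fin 2) K).trace = τ ∨ (M : Matrix (Fin 2) (Fin 2) K).trace = -τ) ∧
    (M : Matrix (Fin 2) (Fin 2) K).det = -1

theorem Cls.conj {τ : K} {M : GL (Fin 2) K} (h : Cls τ M) (P : GL (Fin 2) K) : Cls τ (P * M * P⁻¹) := by
  have ht : ((P * M * P⁻¹ : GL (Fin 2) K) : Matrix (Fin 2) (Fin 2) K).trace =
      (M : Matrix (Fin 2) (Fin 2) K).trace := by
    rw [Units.val_mul, Matrix.trace_mul_comm, ← Units.val_mul, ← mul_assoc, inv_mul_cancel, one_mul]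
  have hd : ((P * M * P⁻¹ : GL (Fin 2) K) : Matrix (Fin 2) (Fin 2) K).det =
      (M : Matrix (Fin 2) (Fin 2) K).det := by
    rw [Units.val_mul, Units.val_mul, Matrix.det_mul_right_comm, ← Units.val_mul, mul_inv_cancel, Units.val_one,
      one_mul]
  exact ⟨by rw [ht]; exact h.1, by rw [hd]; exact h.2⟩

/-- A right factor in the class, from the left one. -/
theorem right_factor {τ : K} {M L : GL (Fin 2) K} (hM : (M : Matrix (Fin 2) (Fin 2) K).det = -1)
    (hL : (L : Matrix (Fin 2) (Fin 2) K).det = 1) {s : K} (hs : s = τ ∨ s = -τ)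
    (ht : ((M : Matrix (Fin 2) (Fin 2) K).adjugate * (L : Matrix (Fin 2) (Fin 2) K)).trace = -s) :
    Cls τ (M⁻¹ * L) := by
  have e1 : ((M⁻¹ * L : GL (Fin 2) K) : Matrix (Fin 2) (Fin 2) K).trace = s := by
    rw [Units.val_mul, Matrix.coe_units_inv, Matrix.inv_def, Ring.inverse_eq_inv', Matrix.smul_mul,
      Matrix.trace_smul, smul_eq_mul, hM, ht, inv_neg, inv_one]
    ring
  refine ⟨by rw [e1]; exact hs, ?_⟩
  have e := congrArg Matrix.det (congrArg Units.val (mul_inv_cancel_left M L))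
  rw [Units.val_mul, Matrix.det_mul, hM, hL] at e
  linear_combination -e

theorem exists_factor_odd [Fintype K] (hodd : Fintype.card K % 2 = 1) (h2 : (2 : K) ≠ 0) {τ : K} (hτ : τ ≠ 0)
    (L : GL (Fin 2) K) (hL : (L : Matrix (Fin 2) (Fin 2) K).det = 1) :
    ∃ M N : GL (Fin 2) K, Cls τ M ∧ Cls τ N ∧ L = M * N := by
  by_cases hns : G2Thompson.NonScalar (L : Matrix (Fin 2) (Fin 2) K)
  · set t := (L : Matrix (Fin 2) (Fin 2) K).trace with ht
    let L₀ : GL (Fin 2) K := compX t 1
    obtain ⟨P, hP⟩ := exists_conj_of_tr_det (A := L) (B := L₀) hns (Or.inl (by simp [L₀, compX_val]))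
      (by rw [(compX_tr_det t 1).1]) (by rw [(compX_tr_det t 1).2, hL, Units.val_one])
    -- a solution of the conic
    obtain ⟨x, z, s, hs, he⟩ : ∃ x z s : K, (s = τ ∨ s = -τ) ∧
        x * x + t * x * z + z * z - τ * x + s * z - 1 = 0 := by
      by_cases h4 : t * t = 4
      · obtain ⟨ε, hε, ht'⟩ : ∃ ε : K, (ε = 1 ∨ ε = -1) ∧ t = 2 * ε := by
          rcases mul_self_eq_mul_self_iff.1 (show t * t = 2 * 2 by rw [h4]; norm_num) with h | h
          · exact ⟨1, Or.inl rfl, by rw [h, mul_one]⟩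
          · exact ⟨-1, Or.inr rfl, by rw [h]; ring⟩
        have hε2 : ε * ε = 1 := by rcases hε with rfl | rfl <;> ring
        have hε0 : ε ≠ 0 := left_ne_zero_of_mul_eq_one hε2
        refine ⟨-(ε * (1 / (2 * ε * τ))), 1 / (2 * ε * τ), ε * τ,
          by rcases hε with rfl | rfl <;> simp, ?_⟩
        rw [ht']
        field_simp
        linear_combination (-1 : K) * hε2
      · have h4' : (4 : K) ≠ 0 := by
          rw [show (4 : K) = 2 * 2 by norm_num]; exact mul_ne_zero h2 h2
        have hk : 1 - t * t / 4 ≠ 0 := by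
          intro h; apply h4
          field_simp at h
          linear_combination -h
        set b := τ * (1 + t / 2) with hb
        obtain ⟨w, u, hwu⟩ := exists_sq_sub (c := 1 + τ * τ / 4 + b * b / (4 * (1 - t * t / 4))) hodd hk
        set z := u - b / (2 * (1 - t * t / 4)) with hz
        refine ⟨w - t * z / 2 + τ / 2, z, τ, Or.inl rfl, ?_⟩
        have e1 : (w - t * z / 2 + τ / 2) * (w - t * z / 2 + τ / 2) + t * (w - t * z / 2 + τ / 2) * z + z * z -
            τ * (w - t * z / 2 + τ / 2) + τ * z - 1 = w * w + (1 - t * t / 4) * (z * z) + b * z - τ * τ / 4 - 1 := by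
          rw [hb]; field_simp; ring
        rw [e1]
        have e2 : w * w + (1 - t * t / 4) * (z * z) + b * z - τ * τ / 4 - 1 =
            w * w + (1 - t * t / 4) * (u * u) - (1 + τ * τ / 4 + b * b / (4 * (1 - t * t / 4))) := by
          rw [hz]
          generalize 1 - t * t / 4 = k at hk
          field_simp
          ring
        rw [e2, hwu, sub_self]
    set y := z + x * t + s with hy
    have hd : Matrix.det !![x, y; z, τ - x] = -1 := by
      rw [Matrix.det_fin_two_of, hy]; linear_combination -he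
    let M : GL (Fin 2) K :=
      GeneralLinearGroup.mkOfDetNeZero !![x, y; z, τ - x] (by rw [hd]; exact neg_ne_zero.2 one_ne_zero)
    have hM : (M : Matrix (Fin 2) (Fin 2) K) = !![x, y; z, τ - x] := rfl
    have hMc : Cls τ M := ⟨Or.inl (by simp [hM, Matrix.trace_fin_two]), by rw [hM, hd]⟩
    have hNc : Cls τ (M⁻¹ * L₀) := right_factor (by rw [hM, hd])
      (by rw [(compX_tr_det t 1).2, Units.val_one]) hs (by
        rw [hM, compX_val, Matrix.adjugate_fin_two_of, Matrix.trace_fin_two]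
        simp [Matrix.mul_apply, Fin.sum_univ_two, hy]
        ring)
    exact ⟨P * M * P⁻¹, P * (M⁻¹ * L₀) * P⁻¹, hMc.conj P, hNc.conj P, by rw [hP]; group⟩
  · simp only [G2Thompson.NonScalar, not_or, not_not] at hns
    obtain ⟨h10, h01, h00⟩ := hns
    have hc : ((L : Matrix (Fin 2) (Fin 2) K) 1 1) * ((L : Matrix (Fin 2) (Fin 2) K) 1 1) = 1 * 1 := by
      rw [one_mul, ← hL, Matrix.det_fin_two, h10, h01, h00]; ring
    let M : GL (Fin 2) K := compX τ (-1)
    have hMd : (M : Matrix (Fin 2) (Fin 2) K).det = -1 := by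
      rw [(compX_tr_det τ (-1)).2]; simp
    refine ⟨M, M⁻¹ * L, ⟨Or.inl (compX_tr_det τ (-1)).1, hMd⟩, ?_, by group⟩
    rcases mul_self_eq_mul_self_iff.1 hc with e | e
    · refine right_factor (s := -τ) hMd hL (Or.inr rfl) ?_
      rw [compX_val, Matrix.adjugate_fin_two_of, Matrix.trace_fin_two]
      simp [Matrix.mul_apply, Fin.sum_univ_two, h10, h01, h00, e]
    · refine right_factor (s := τ) hMd hL (Or.inl rfl) ?_
      rw [compX_val, Matrix.adjugate_fin_two_of, Matrix.trace_fin_two]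
      simp [Matrix.mul_apply, Fin.sum_univ_two, h10, h01, h00, e]

end Cfsg.Agent.D4Thompson
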