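/-
The Levi subgroup of the Heisenberg parabolic of ³D₄, by GL₂ over the large field.

* `psi`: phiA of the SL₂ part times a torus element, multiplicative on matrices with fixed determinant;
* `top`, `psi_col`: the highest root vector is multiplied by the determinant;
* `nT`, `nT_psi`: the reflection of the highest root induces `M ↦ M / det M`.
-/
import Cfsg.Agent.EqLemmas
import Cfsg.Agent.Lib.G2Thompson.Levi
import Cfsg.Agent.Lib.D4Thompson.GL2
import Cfsg.Agent.Lib.TwistMult.D4Rgd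
import Cfsg.Agent.Lib.TwistE6D4.D4Levi
import Cfsg.Agent.Lib.TwistE6D4.D4TorusLevi
import Cfsg.Agent.Lib.TwistE6D4.D4TorusCent
import Cfsg.Agent.Lib.TwistE6D4.Facts

set_option autoImplicit false
set_option linter.unusedSectionVars false
set_option maxRecDepth 100000

namespace Cfsg.Agent.D4Thompson

open Cfsg.Lie Cfsg.Lie.ChevalleyDatum Cfsg.Agent.Chev Cfsg.Agent.TwistE6D4 Cfsg.Agent.TwistE6D4.D4
  Cfsg.Agent.Chev.RankOne Matrix
open G2Thompson (dgl gdet coe_gdet gdet_mul gdet_dgl twistSL twist_X twist_Y sl2_induction)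
open scoped MatrixGroups

variable {K : Type*} [Field K] (hD : Good chevD4) (φ : K →+* K)

local notation "CC" => ctxD4 hD φ
local notation "o" => orb hD d4Twist φ
local notation "θ" => theta chevD4 K
local notation "Mx" g => (Units.val g : Matrix chevD4.Idx chevD4.Idx K)

/-- The index of a root. -/
def ix (r : ℕ) (h : r < chevD4.nroots) : chevD4.Idx := .inr ⟨r, h⟩

theorem lt24 {r : ℕ} (h : r < 24) : r < chevD4.nroots := by rwa [show chevD4.nroots = 24 by decide +kernel]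

/-- The highest root vector. -/
def top : chevD4.Idx := ix 23 (lt24 (by norm_num))

/-- The lowest root vector. -/
def bot : chevD4.Idx := ix 0 (lt24 (by norm_num))

/-- The torus element with parameters. -/
def torG (u c : Kˣ) : GL chevD4.Idx K := θ (tor φ u c)

theorem torG_mul (u u' c c' : Kˣ) : torG φ u c * torG φ u' c' = torG φ (u * u') (c * c') := by
  rw [torG, torG, torG, tor_mul, map_mul]

theorem torG_one : torG φ (1 : Kˣ) 1 = 1 := tor_one

/-- The map on GL₂. -/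
noncomputable def psi (M : GL (Fin 2) K) : GL chevD4.Idx K :=
  TwistMult.D4.phiA hD φ (G2Thompson.slPart M) * torG φ 1 (gdet M)

/-- Fixed determinant. -/
def DFix (M : GL (Fin 2) K) : Prop := φ (gdet M : K) = (gdet M : K)

theorem DFix.mul {M N : GL (Fin 2) K} (hM : DFix φ M) (hN : DFix φ N) : DFix φ (M * N) := by
  rw [DFix, gdet_mul, Units.val_mul, map_mul, hM, hN]

theorem torG_conj (u c : Kˣ) (h3 : ∀ t, φ (φ (φ t)) = t) (hc : φ (c : K) = c) {r : ℕ} (hr : r ∈ d4Twist.reps) (t : K) :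
    torG φ u c * o r t * (torG φ u c)⁻¹ = o r ((chiX (tor φ u c) r : K) * t) :=
  theta_conj_orb d4Twist_ok hD φ (tor_mem h3 u hc) hr t

include hD in
theorem chi_five (u c : Kˣ) : (chiX (tor φ u c) 5 : K) = (c : K) / (u : K) ^ 2 := by
  have e : chevD4.neg 18 = 5 := by decide +kernel
  rw [← e, chiX_neg hD _ (lt24 (by norm_num)), (chi_values (φ := φ) u c).1, inv_div]

theorem phiA_twist (h3 : ∀ t, φ (φ (φ t)) = t) {d : Kˣ} (hd : φ (d : K) = d) (S : SL(2, K)) :
    TwistMult.D4.phiA hD φ (twistSL d S) = torG φ 1 d * TwistMult.D4.phiA hD φ S * (torG φ 1 d)⁻¹ := by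
  refine sl2_induction (P := fun S => TwistMult.D4.phiA hD φ (twistSL d S) =
    torG φ 1 d * TwistMult.D4.phiA hD φ S * (torG φ 1 d)⁻¹) (fun t => ?_) (fun t => ?_) (fun a b ha hb => ?_) S
  · rw [twist_X, TwistMult.D4.phiA_X, TwistMult.D4.phiA_X, torG_conj hD φ 1 d h3 hd (by decide),
      (chi_values (φ := φ) 1 d).1, Units.val_one, one_pow, one_div, Units.val_inv_eq_inv_val]
  · rw [twist_Y, TwistMult.D4.phiA_Y, TwistMult.D4.phiA_Y, torG_conj hD φ 1 d h3 hd (by decide), chi_five hD,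
      Units.val_one, one_pow, div_one]
  · rw [map_mul, map_mul, ha, hb, map_mul]; group

theorem psi_mul (h3 : ∀ t, φ (φ (φ t)) = t) {M : GL (Fin 2) K} (hM : DFix φ M) (N : GL (Fin 2) K) :
    psi hD φ (M * N) = psi hD φ M * psi hD φ N := by
  have e : G2Thompson.slPart (M * N) = G2Thompson.slPart M * twistSL (gdet M) (G2Thompson.slPart N) := by
    apply Subtype.ext
    show ((M * N * (dgl 1 (gdet (M * N)))⁻¹ : GL (Fin 2) K) : Matrix (Fin 2) (Fin 2) K) =
      ((M * (dgl 1 (gdet M))⁻¹ * (dgl 1 (gdet M) * (N * (dgl 1 (gdet N))⁻¹) * (dgl 1 (gdet M))⁻¹) :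
        GL (Fin 2) K) : Matrix (Fin 2) (Fin 2) K)
    congr 1
    have : dgl (1 : Kˣ) (gdet (M * N)) = dgl 1 (gdet M) * dgl 1 (gdet N) := by
      apply Units.ext
      ext i j; fin_cases i <;> fin_cases j <;> simp [dgl, gdet_mul, Matrix.mul_apply, Fin.sum_univ_two]
    rw [this]; group
  rw [psi, e, map_mul, phiA_twist hD φ h3 hM, gdet_mul, show torG φ (1 : Kˣ) (gdet M * gdet N) =
    torG φ 1 (gdet M) * torG φ 1 (gdet N) by rw [torG_mul, one_mul], psi, psi]
  group

theorem psi_one : psi hD φ (1 : GL (Fin 2) K) = 1 := by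
  have h := G2Thompson.slPart_of_sl (M := (1 : GL (Fin 2) K)) (1 : SL(2, K)) rfl
  rw [psi, h.1, h.2, map_one, torG_one, one_mul]

theorem psi_inv (h3 : ∀ t, φ (φ (φ t)) = t) {M : GL (Fin 2) K} (hM : DFix φ M) :
    psi hD φ M⁻¹ = (psi hD φ M)⁻¹ :=
  eq_inv_of_mul_eq_one_right (by rw [← psi_mul hD φ h3 hM, mul_inv_cancel, psi_one])

theorem psi_pow (h3 : ∀ t, φ (φ (φ t)) = t) {M : GL (Fin 2) K} (hM : DFix φ M) : ∀ n : ℕ,
    psi hD φ (M ^ n) = psi hD φ M ^ n
  | 0 => by rw [pow_zero, pow_zero, psi_one]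
  | n + 1 => by rw [pow_succ', psi_mul hD φ h3 hM, psi_pow h3 hM n, ← pow_succ']

theorem psi_sl (S : SL(2, K)) : psi hD φ (slGL S) = TwistMult.D4.phiA hD φ S := by
  obtain ⟨h1, h2⟩ := G2Thompson.slPart_of_sl (M := slGL S) S rfl
  rw [psi, h1, h2, torG_one, mul_one]

theorem dfix_sl (S : SL(2, K)) : DFix φ (slGL S) := by
  rw [DFix, (G2Thompson.slPart_of_sl (M := slGL S) S rfl).2, Units.val_one, map_one]

theorem psi_conj (h3 : ∀ t, φ (φ (φ t)) = t) (S : SL(2, K)) {M : GL (Fin 2) K} (hM : DFix φ M) :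
    psi hD φ (slGL S * M * (slGL S)⁻¹) =
      TwistMult.D4.phiA hD φ S * psi hD φ M * (TwistMult.D4.phiA hD φ S)⁻¹ := by
  rw [psi_mul hD φ h3 (DFix.mul φ (dfix_sl φ S) hM), psi_mul hD φ h3 (dfix_sl φ S), psi_inv hD φ h3 (dfix_sl φ S),
    psi_sl]

theorem torG_single (a : Kˣ) :
    ChevBN.hg hD K 18 (a : K) * (ChevBN.hg hD K 13 (φ a) * ChevBN.hg hD K 12 (φ (φ a))) = torG φ a 1 := by
  have hs : ∀ i : Fin chevD4.rank, ∀ b : Kˣ,
      ChevBN.hg hD K (chevD4.simple i.val) (b : K) = θ (Pi.mulSingle i b) := fun i b => (theta_single hD i b).symm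
  have e0 : chevD4.simple (d4Node 0).val = 18 := by decide +kernel
  have e2 : chevD4.simple ((2 : Fin 4) : Fin chevD4.rank).val = 13 := by decide +kernel
  have e3 : chevD4.simple ((3 : Fin 4) : Fin chevD4.rank).val = 12 := by decide +kernel
  have h18 := hs (d4Node 0) a
  rw [e0] at h18
  have h13 := hs ((2 : Fin 4) : Fin chevD4.rank) (Units.map (φ : K →* K) a)
  rw [e2, Units.coe_map] at h13
  have h12 := hs ((3 : Fin 4) : Fin chevD4.rank) (Units.map (φ : K →* K) (Units.map (φ : K →* K) a))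
  rw [e3, Units.coe_map, Units.coe_map] at h12
  change ChevBN.hg hD K 13 (φ a) = _ at h13
  change ChevBN.hg hD K 12 (φ (φ a)) = _ at h12
  rw [h18, h13, h12, ← map_mul, ← map_mul, torG]
  congr 1
  funext i
  revert i
  show ∀ i : Fin 4, _
  intro i
  show (Pi.mulSingle (0 : Fin 4) a * (Pi.mulSingle (2 : Fin 4) (Units.map (φ : K →* K) a) *
    Pi.mulSingle (3 : Fin 4) (Units.map (φ : K →* K) (Units.map (φ : K →* K) a))) : Fin 4 → Kˣ) i =
      (![a, 1, Units.map (φ : K →* K) a, Units.map (φ : K →* K) (Units.map (φ : K →* K) a)] : Fin 4 → Kˣ) i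
  fin_cases i <;> simp

theorem phiA_diag (a : Kˣ) (S : SL(2, K)) (h : S.1 = !![(a : K), 0; 0, ((a⁻¹ : Kˣ) : K)]) :
    TwistMult.D4.phiA hD φ S = torG φ a 1 := by
  rw [← torG_single hD φ a]
  simp [TwistMult.D4.phiA, TwistMult.D4.slMap, sl2Hom, phi, phiE, h, ChevBN.xg_zero, mul_assoc]

theorem psi_dgl (a b : Kˣ) : psi hD φ (dgl a b) = torG φ a (a * b) := by
  rw [psi, gdet_dgl]
  have e : TwistMult.D4.phiA hD φ (G2Thompson.slPart (dgl a b)) = torG φ a 1 := phiA_diag hD φ a _ <| by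
    show ((dgl a b * (dgl 1 (gdet (dgl a b)))⁻¹ : GL (Fin 2) K) : Matrix (Fin 2) (Fin 2) K) = _
    rw [gdet_dgl, Units.val_mul]
    show !![(a : K), 0; 0, b] * !![(((1 : Kˣ)⁻¹ : Kˣ) : K), 0; 0, (((a * b)⁻¹ : Kˣ) : K)] = _
    ext i j; fin_cases i <;> fin_cases j <;> simp [Matrix.mul_apply, Fin.sum_univ_two] <;> field_simp
  rw [e, torG_mul, mul_one, one_mul]

theorem reps_all : ∀ r ∈ [18, 5, 14, 15, 17, 22, 23, 0], r ∈ d4Twist.reps := by decide

theorem orb_mem_G0 (h3 : ∀ t, φ (φ (φ t)) = t) {r : ℕ} (hr : r ∈ d4Twist.reps) (hl : d4Twist.len r = 3) (t : K) :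
    o r t ∈ (CC).G0 :=
  (CC).Uo_le_G0 d4_long ⟨r, hr⟩ ((CC).orb_mem_Uo hr (by
    show (⇑φ)^[d4Twist.len r] t = t
    rw [hl]; exact h3 t))

theorem phiA_mem (h3 : ∀ t, φ (φ (φ t)) = t) (S : SL(2, K)) : TwistMult.D4.phiA hD φ S ∈ (CC).G0 :=
  sl2_induction (P := fun S => TwistMult.D4.phiA hD φ S ∈ (CC).G0)
    (fun t => by rw [TwistMult.D4.phiA_X]; exact orb_mem_G0 hD φ h3 (by decide) (by decide) t)
    (fun t => by rw [TwistMult.D4.phiA_Y]; exact orb_mem_G0 hD φ h3 (by decide) (by decide) t)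
    (fun a b ha hb => by rw [map_mul]; exact mul_mem ha hb) S

theorem torG_mem_H (h3 : ∀ t, φ (φ (φ t)) = t) (u : Kˣ) {c : Kˣ} (hc : φ (c : K) = c) :
    torG φ u c ∈ (CC).rgd.H :=
  ⟨_, tor_mem h3 u hc, rfl⟩

theorem psi_mem (h3 : ∀ t, φ (φ (φ t)) = t) {M : GL (Fin 2) K} (hM : DFix φ M) : psi hD φ M ∈ (CC).G0 :=
  mul_mem (phiA_mem hD φ h3 _) ((CC).H0_le_G0 (torG_mem_H hD φ h3 1 hM))

/-! ### The highest root vector -/

theorem xg_fix_top {r : ℕ} (hr : r ∈ [18, 13, 12, 5, 10, 11]) (t : K) (a : chevD4.Idx) :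
    (Mx gx hD K r t) a top = if a = top then 1 else 0 := by
  have key : ∀ r ∈ [18, 13, 12, 5, 10, 11], r < 24 ∧ r ≠ 23 ∧ chevD4.negIdx.getD r 0 ≠ 23 := by decide +kernel
  have key' : ∀ r ∈ [18, 13, 12, 5, 10, 11], ∀ u < 24, (chevD4.chainCoeff r 23 u).isEmpty = true := by decide +kernel
  obtain ⟨hlt, h1, h2⟩ := key r hr
  have hlt' := lt24 hlt
  have h1' : (⟨23, lt24 (by norm_num)⟩ : Fin chevD4.nroots) ≠ ⟨r, hlt'⟩ := fun e => h1 (congrArg Fin.val e).symm
  rw [show (gx hD K r t : Matrix chevD4.Idx chevD4.Idx K) = chevD4.x K r t from rfl, ChevalleyDatum.x, dif_pos hlt']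
  rcases a with i | u
  · simp only [ChevalleyDatum.xMat, Matrix.of_apply, top, ix]
    rw [if_neg h1', if_neg h2.symm]
    simp
  · have h0 := List.isEmpty_iff.1 (key' r hr u.val (u.isLt.trans_le (by decide +kernel)))
    simp only [ChevalleyDatum.xMat, Matrix.of_apply, top, ix]
    rw [if_neg h1', if_neg h2.symm, h0]
    simp

theorem col_mul {A B : GL chevD4.Idx K} {c : K} {j b : chevD4.Idx}
    (hB : ∀ a, (Mx B) a j = if a = b then c else 0) (a : chevD4.Idx) :
    (Mx (A * B)) a j = (Mx A) a b * c := by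
  rw [Units.val_mul, Matrix.mul_apply, Finset.sum_eq_single b (fun x _ hx => by rw [hB, if_neg hx, mul_zero])
    (fun h => absurd (Finset.mem_univ _) h), hB, if_pos rfl]

theorem torG_col (u c : Kˣ) {r : ℕ} (hr : r < chevD4.nroots) (a : chevD4.Idx) :
    (Mx torG φ u c) a (ix r hr) = if a = ix r hr then (chiX (tor φ u c) r : K) else 0 := by
  rw [torG, coe_theta, ChevBN.dg, Matrix.diagonal_apply]
  split
  · next h => subst h; rfl
  · rfl

theorem phiA_col (S : SL(2, K)) (a : chevD4.Idx) :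
    (Mx TwistMult.D4.phiA hD φ S) a top = if a = top then 1 else 0 := by
  have horb : ∀ r ∈ [18, 5], ∀ t : K, ∀ a, (Mx o r t) a top = if a = top then 1 else 0 := by
    intro r hr t
    have key : ∀ r ∈ [18, 5], ∀ i < d4Twist.len r, d4Twist.rho^[i] r ∈ [18, 13, 12, 5, 10, 11] := by decide +kernel
    have h : ∀ L : List ℕ, (∀ i ∈ L, i < d4Twist.len r) → ∀ a, (Mx (L.map fun i =>
        gx hD K (d4Twist.rho^[i] r) (cf d4Twist φ r t i)).prod) a top = if a = top then 1 else 0 := fun L hL => by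
      induction L with
      | nil => intro a; simp [Matrix.one_apply]
      | cons i L ih =>
        intro a
        rw [List.map_cons, List.prod_cons, col_mul (ih fun j hj => hL j (List.mem_cons_of_mem _ hj)),
          xg_fix_top hD (key r hr i (hL i (by simp)))]
        simp
    exact h _ fun i hi => List.mem_range.1 hi
  refine sl2_induction (P := fun S => ∀ a, (Mx TwistMult.D4.phiA hD φ S) a top = if a = top then (1 : K) else 0)
    (fun t a => by rw [TwistMult.D4.phiA_X]; exact horb 18 (by simp) t a)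
    (fun t a => by rw [TwistMult.D4.phiA_Y]; exact horb 5 (by simp) t a) (fun A B hA hB a => ?_) S a
  rw [map_mul, col_mul hB, hA, mul_one]

theorem psi_col (M : GL (Fin 2) K) (a : chevD4.Idx) :
    (Mx psi hD φ M) a top = if a = top then (M : Matrix (Fin 2) (Fin 2) K).det else 0 := by
  have hc : ∀ a, (Mx torG φ 1 (gdet M)) a top = if a = top then (gdet M : K) else 0 := fun a => by
    rw [top, torG_col, (chi_values (φ := φ) 1 (gdet M)).2.2.2.2.2.2.1]
  rw [psi, col_mul hc, phiA_col, coe_gdet]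
  split <;> simp

/-! ### The reflection of the highest root -/

/-- The reflection element of the highest root. -/
def nT : GL chevD4.Idx K := ChevBN.ng hD K 23 1

theorem nT_mem : nT hD (K := K) ∈ (CC).G0 := by
  have e : chevD4.neg 23 = 0 := by decide +kernel
  rw [nT, TwistE6D4.ng_eq, e]
  exact mul_mem (mul_mem (D4Heis.orb1_mem hD φ (by decide) (by decide) (map_one φ))
    (D4Heis.orb1_mem hD φ (by decide) (by decide) (by simp))) (D4Heis.orb1_mem hD φ (by decide) (by decide) (map_one φ))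

theorem nT_commute (S : SL(2, K)) : Commute (nT hD (K := K)) (TwistMult.D4.phiA hD φ S) := by
  have hfree : ∀ r ∈ [18, 13, 12, 5, 10, 11], D4Heis.Free r 23 ∧ D4Heis.Free r 0 := by decide +kernel
  have horb : ∀ r ∈ [18, 5], ∀ t : K, ∀ s ∈ [23, 0], ∀ u : K, Commute (o r t) (gx hD K s u) := by
    intro r hr t s hs u
    have key : ∀ r ∈ [18, 5], ∀ i < d4Twist.len r, d4Twist.rho^[i] r ∈ [18, 13, 12, 5, 10, 11] := by decide +kernel
    refine Commute.list_prod_left _ _ fun g hg => ?_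
    obtain ⟨i, hi, rfl⟩ := List.mem_map.1 hg
    obtain ⟨h1, h2⟩ := hfree _ (key r hr i (List.mem_range.1 hi))
    simp only [List.mem_cons, List.not_mem_nil, or_false] at hs
    rcases hs with rfl | rfl
    · exact h1.commute hD _ _
    · exact h2.commute hD _ _
  have hS : ∀ s ∈ [23, 0], ∀ u : K, Commute (TwistMult.D4.phiA hD φ S) (gx hD K s u) := fun s hs u =>
    sl2_induction (P := fun S => Commute (TwistMult.D4.phiA hD φ S) (gx hD K s u))
      (fun t => by rw [TwistMult.D4.phiA_X]; exact horb 18 (by simp) t s hs u)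
      (fun t => by rw [TwistMult.D4.phiA_Y]; exact horb 5 (by simp) t s hs u)
      (fun a b ha hb => by rw [map_mul]; exact ha.mul_left hb) S
  have e : chevD4.neg 23 = 0 := by decide +kernel
  rw [nT, TwistE6D4.ng_eq, e]
  exact (((hS 23 (by simp) _).mul_right (hS 0 (by simp) _)).mul_right (hS 23 (by simp) _)).symm

theorem nT_mulVec {s : ℕ} (hs : s < chevD4.nroots) :
    Chev.refl chevD4 23 s < chevD4.nroots ∧ ∃ z : K, z ≠ 0 ∧
      (Mx nT hD) *ᵥ ev chevD4 K s = z • ev chevD4 K (Chev.refl chevD4 23 s) := by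
  refine ⟨ChevSt.refl_lt hD (lt24 (by norm_num)) hs,
    (nSign chevD4 23 s : K) * (1 : K) ^ (-chevD4.pairing 23 s), ?_, ?_⟩
  swap
  · rw [nT, ChevBN.coe_ng]; exact hD.n_root (lt24 (by norm_num)) hs one_ne_zero
  · rcases (ChevBN.nSign_cases hD (lt24 (r := 23) (by norm_num)) hs).1 with h | h <;> simp [h]

theorem cartan_refl : ∀ s < 24, chevD4.cartan 1 s =
    -((List.range 4).map fun i => chevD4.cartan i (Chev.refl chevD4 23 s)).sum := by decide +kernel

theorem torG_inl (u c : Kˣ) (v : chevD4.Idx → K) (hv : ∀ s, v (Sum.inr s) = 0) :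
    (Mx torG φ u c) *ᵥ v = v := by
  funext a
  rw [torG, coe_theta, ChevBN.dg, Matrix.mulVec_diagonal]
  rcases a with i | s
  · simp
  · simp [hv s]

theorem nT_tor (hd : Kˣ) (hf : φ (hd : K) = hd) :
    nT hD * torG φ 1 hd = torG φ hd⁻¹ hd⁻¹ * nT hD := by
  refine Units.ext (Matrix.ext_of_mulVec_single fun b => ?_)
  rw [Units.val_mul, Units.val_mul, ← Matrix.mulVec_mulVec, ← Matrix.mulVec_mulVec]
  rcases b with i | s
  · have h1 : (Mx torG φ 1 hd) *ᵥ Pi.single (Sum.inl i) (1 : K) = Pi.single (Sum.inl i) 1 :=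
      torG_inl φ _ _ _ fun s => by simp
    rw [h1, nT, ChevBN.coe_ng, hD.n_inl (lt24 (by norm_num)) one_ne_zero, torG_inl φ]
    intro s
    simp [hv]
  · rw [← ev_of_lt chevD4 K s.isLt]
    obtain ⟨h1, z, -, hz⟩ := nT_mulVec hD s.isLt (K := K)
    rw [torG, Ctx.theta_mulVec _ s.isLt, Matrix.mulVec_smul, hz, Matrix.mulVec_smul, torG,
      Ctx.theta_mulVec _ h1, smul_smul, smul_smul, mul_comm z]
    congr 2
    have h24 : s.val < 24 := s.isLt.trans_le (by decide +kernel)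
    rw [chi_tor (1 : Kˣ) hd rfl, chi_tor hd⁻¹ hd⁻¹ rfl, Units.val_inv_eq_inv_val, map_inv₀, hf, map_inv₀, hf,
      _root_.inv_zpow', _root_.inv_zpow', _root_.inv_zpow', _root_.inv_zpow', ← zpow_add₀ hd.ne_zero, ← zpow_add₀ hd.ne_zero,
      ← zpow_add₀ hd.ne_zero]
    have := cartan_refl s.val h24
    simp only [List.range_succ, List.range_zero, List.nil_append, List.map_append, List.map_cons, List.map_nil,
      List.sum_append, List.sum_cons, List.sum_nil] at this
    simp [List.range_succ, this]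
    congr 1
    ring

/-- `M / det M`. -/
def nTImage (M : GL (Fin 2) K) : GL (Fin 2) K := M * dgl (gdet M)⁻¹ (gdet M)⁻¹

theorem nT_psi (h3 : ∀ t, φ (φ (φ t)) = t) {M : GL (Fin 2) K} (hM : DFix φ M) :
    nT hD * psi hD φ M * (nT hD)⁻¹ = psi hD φ (nTImage M) := by
  set d := gdet M with hd
  have e2 : nT hD * torG φ 1 d * (nT hD)⁻¹ = torG φ d⁻¹ d⁻¹ := by rw [nT_tor hD φ d hM, mul_inv_cancel_right]
  rw [nTImage, psi_mul hD φ h3 hM, psi_dgl, ← hd, psi, ← hd,
    show ∀ n a b : GL chevD4.Idx K, n * (a * b) * n⁻¹ = n * a * n⁻¹ * (n * b * n⁻¹) from fun n a b => by group,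
    (nT_commute hD φ _).eq, mul_inv_cancel_right, e2, mul_assoc, torG_mul]
  congr 2 <;> group

theorem gdet_nTImage (M : GL (Fin 2) K) : gdet (nTImage M) = (gdet M)⁻¹ := by
  rw [nTImage, gdet_mul, gdet_dgl]; group

theorem dfix_inv {d : Kˣ} (h : φ (d : K) = d) : φ ((d⁻¹ : Kˣ) : K) = ((d⁻¹ : Kˣ) : K) := by
  rw [Units.val_inv_eq_inv_val, map_inv₀, h]

theorem nT_psi_inv (h3 : ∀ t, φ (φ (φ t)) = t) {M : GL (Fin 2) K} (hM : DFix φ M) :
    (nT hD)⁻¹ * psi hD φ M * nT hD = psi hD φ (nTImage M) := by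
  have hM' : DFix φ (nTImage M) := by rw [DFix, gdet_nTImage]; exact dfix_inv φ hM
  have e : nTImage (nTImage M) = M := by
    apply Units.ext
    rw [nTImage, gdet_nTImage, inv_inv, nTImage]
    simp only [Units.val_mul]
    ext i j; fin_cases i <;> fin_cases j <;> simp [dgl, Matrix.mul_apply, Fin.sum_univ_two]
  have h := nT_psi hD φ h3 hM'
  rw [e] at h
  rw [← h]; group

end Cfsg.Agent.D4Thompson
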