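/-
The big cell of the Heisenberg parabolic of ³D₄, by one matrix coefficient.

* `UP`, `UM`: the radical and its opposite, normalised by the Levi subgroup;
* `cell`: an element with nonzero coefficient at the highest root vector lies in `UM · L · UP`;
* `exists_conj_coeff`: a nontrivial element has a conjugate with any fixed coefficient.
-/
import Cfsg.Agent.EqLemmas
import Cfsg.Agent.Lib.D4Thompson.Levi
import Cfsg.Agent.Lib.ChevBN.RootTables
import Cfsg.Agent.Lib.ChevInvolOdd.Monomial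

set_option autoImplicit false
set_option linter.unusedSectionVars false
set_option maxRecDepth 100000

namespace Cfsg.Agent.D4Thompson

open Cfsg.Lie Cfsg.Lie.ChevalleyDatum Cfsg.Agent.Chev Cfsg.Agent.TwistE6D4 Cfsg.Agent.TwistE6D4.D4
  Cfsg.Agent.Chev.RankOne Matrix
open G2Thompson (dgl gdet coe_gdet gdet_mul gdet_dgl sl2_induction)
open ChevBN (ht rootsD4 adjD4)
open scoped MatrixGroups

variable {K : Type*} [Field K] (hD : Good chevD4) (φ : K →+* K)

local notation "CC" => ctxD4 hD φ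
local notation "o" => orb hD d4Twist φ
local notation "Mx" g => (Units.val g : Matrix chevD4.Idx chevD4.Idx K)

/-- The radical. -/
def UP : Subgroup (GL chevD4.Idx K) := (CC).rgd.Udel (0 : Fin 2)

/-- Its opposite. -/
def UM : Subgroup (GL chevD4.Idx K) := (UP hD φ).comap (MulAut.conj (nT hD (K := K))).toMonoidHom

theorem mem_UM {g : GL chevD4.Idx K} : g ∈ UM hD φ ↔ nT hD * g * (nT hD)⁻¹ ∈ UP hD φ := Iff.rfl

theorem Upos_le_G0 : (CC).rgd.Upos ≤ (CC).G0 := by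
  rw [← (CC).rgd_G]; exact (CC).rgd.Upos_le_B.trans (CC).rgd.B_le_G

theorem UP_le_Upos : UP hD φ ≤ (CC).rgd.Upos := (CC).rgd.Udel_le_Upos _

theorem UP_le_G0 : UP hD φ ≤ (CC).G0 := (UP_le_Upos hD φ).trans (Upos_le_G0 hD φ)

theorem UM_le_G0 : UM hD φ ≤ (CC).G0 := fun g hg => by
  have h := mul_mem (mul_mem (inv_mem (nT_mem hD φ)) (UP_le_G0 hD φ ((mem_UM hD φ).1 hg))) (nT_mem hD φ)
  convert h using 1
  group

theorem posU_of_Upos {g : GL chevD4.Idx K} (hg : g ∈ (CC).rgd.Upos) : g ∈ chevD4.posUnipotent K :=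
  ((CC).pos_inf_G0.symm.le hg).1

/-! ### The Levi subgroup -/

/-- An element of the Levi subgroup. -/
def InL (g : GL chevD4.Idx K) : Prop := ∃ M : GL (Fin 2) K, DFix φ M ∧ g = psi hD φ M

theorem InL.mul (h3 : ∀ t, φ (φ (φ t)) = t) {g h : GL chevD4.Idx K} :
    InL hD φ g → InL hD φ h → InL hD φ (g * h) := by
  rintro ⟨M, hM, rfl⟩ ⟨N, hN, rfl⟩
  exact ⟨M * N, DFix.mul φ hM hN, (psi_mul hD φ h3 hM N).symm⟩

theorem inL_phiA (S : SL(2, K)) : InL hD φ (TwistMult.D4.phiA hD φ S) :=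
  ⟨slGL S, dfix_sl φ S, (psi_sl hD φ S).symm⟩

theorem inL_H (h3 : ∀ t, φ (φ (φ t)) = t) {g : GL chevD4.Idx K} (hg : g ∈ (CC).rgd.H) : InL hD φ g := by
  obtain ⟨x, hx, rfl⟩ := hg
  obtain ⟨u, c, hc, rfl⟩ := tor_surj hx
  refine ⟨dgl u (u⁻¹ * c), ?_, ?_⟩
  · rw [DFix, gdet_dgl, mul_inv_cancel_left, hc]
  · rw [psi_dgl, mul_inv_cancel_left]
    rfl

theorem mem_simple0 {g : GL chevD4.Idx K} (hg : g ∈ (CC).rgd.U ((CC).rgd.simple (0 : Fin 2))) :
    ∃ t : K, g = o 18 t := by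
  obtain ⟨t, -, rfl⟩ := (CC).mem_Uo ((CC).hR.rep_simple (0 : Fin 2)) hg
  exact ⟨t, congrArg (fun r => orb hD d4Twist φ r t) (by decide +kernel : chevD4.simple (d4Node 0).val = 18)⟩

theorem orb18_mem (h3 : ∀ t, φ (φ (φ t)) = t) (t : K) :
    o 18 t ∈ (CC).rgd.U ((CC).rgd.simple (0 : Fin 2)) := by
  show _ ∈ (CC).Uo (chevD4.simple (d4Node 0).val)
  rw [show chevD4.simple (d4Node 0).val = 18 by decide +kernel]
  exact (CC).orb_mem_Uo (r := 18) (show 18 ∈ d4Twist.reps by decide) (by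
    show (⇑φ)^[d4Twist.len 18] t = t
    rw [show d4Twist.len 18 = 3 by decide]; exact h3 t)

theorem orb5_mem (h3 : ∀ t, φ (φ (φ t)) = t) (t : K) :
    o 5 t ∈ (CC).rgd.U ((CC).rgd.neg ((CC).rgd.simple (0 : Fin 2))) := by
  show _ ∈ (CC).Uo ((CC).repOf (chevD4.neg (chevD4.simple (d4Node 0).val)))
  rw [show chevD4.neg (chevD4.simple (d4Node 0).val) = 5 by decide +kernel,
    (CC).repOf_self (r := 5) (show 5 ∈ d4Twist.reps by decide)]
  exact (CC).orb_mem_Uo (r := 5) (show 5 ∈ d4Twist.reps by decide) (by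
    show (⇑φ)^[d4Twist.len 5] t = t
    rw [show d4Twist.len 5 = 3 by decide]; exact h3 t)

theorem inL_n0 : InL hD φ ((CC).rgd.n (0 : Fin 2)) := by
  have e : (CC).rgd.n (0 : Fin 2) = o 18 1 * o 5 (-1) * o 18 1 := by
    show (CC).ns (0 : Fin 2) 1 = _
    rw [(CC).ns_eq, (CC).op_eq, (CC).om_eq, inv_one]
    show o (chevD4.simple (d4Node 0).val) 1 * o (chevD4.neg (chevD4.simple (d4Node 0).val)) (-1) *
      o (chevD4.simple (d4Node 0).val) 1 = _
    rw [show chevD4.simple (d4Node 0).val = 18 by decide +kernel, show chevD4.neg 18 = 5 by decide +kernel]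
  rw [e, ← TwistMult.D4.phiA_X, ← TwistMult.D4.phiA_Y, ← map_mul, ← map_mul]
  exact inL_phiA hD φ _

theorem phiA_norm_UP (h3 : ∀ t, φ (φ (φ t)) = t) (S : SL(2, K)) :
    ∀ u ∈ UP hD φ, TwistMult.D4.phiA hD φ S * u * (TwistMult.D4.phiA hD φ S)⁻¹ ∈ UP hD φ := by
  refine sl2_induction (P := fun S => ∀ u ∈ UP hD φ,
    TwistMult.D4.phiA hD φ S * u * (TwistMult.D4.phiA hD φ S)⁻¹ ∈ UP hD φ) (fun t => ?_) (fun t u hu => ?_)
    (fun a b ha hb u hu => ?_) S
  · rw [TwistMult.D4.phiA_X]; exact (CC).rgd.U_conj_Udel _ (orb18_mem hD φ h3 t)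
  · rw [TwistMult.D4.phiA_Y]
    set n := (CC).rgd.n (0 : Fin 2)
    have h1 : n * o 5 t * n⁻¹ ∈ (CC).rgd.U ((CC).rgd.simple (0 : Fin 2)) := by
      have := (CC).rgd.n_conj_U (0 : Fin 2) _ _ (orb5_mem hD φ h3 t)
      rwa [(CC).rgd.w_neg, (CC).rgd.w_simple, (CC).rgd.neg_neg] at this
    have h2 := (CC).rgd.Udel_conj_n' _ ((CC).rgd.U_conj_Udel _ h1 _ ((CC).rgd.n_conj_Udel _ u hu))
    have e : o 5 t * u * (o 5 t)⁻¹ = n⁻¹ * ((n * o 5 t * n⁻¹) * (n * u * n⁻¹) * (n * o 5 t * n⁻¹)⁻¹) * n := by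
      group
    rw [e]; exact h2
  · rw [map_mul]
    convert ha _ (hb u hu) using 1
    group

theorem psi_norm_UP (h3 : ∀ t, φ (φ (φ t)) = t) {M : GL (Fin 2) K} (hM : DFix φ M) {u : GL chevD4.Idx K}
    (hu : u ∈ UP hD φ) : psi hD φ M * u * (psi hD φ M)⁻¹ ∈ UP hD φ := by
  have h := phiA_norm_UP hD φ h3 (G2Thompson.slPart M) _
    ((CC).rgd.H_conj_span _ (torG_mem_H hD φ h3 1 hM) _ hu)
  rw [psi]
  convert h using 1
  group

theorem psi_norm_UM (h3 : ∀ t, φ (φ (φ t)) = t) {M : GL (Fin 2) K} (hM : DFix φ M) {u : GL chevD4.Idx K}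
    (hu : u ∈ UM hD φ) : psi hD φ M * u * (psi hD φ M)⁻¹ ∈ UM hD φ := by
  rw [mem_UM] at hu ⊢
  have hM' : DFix φ (nTImage M) := by rw [DFix, gdet_nTImage]; exact dfix_inv φ hM
  have := psi_norm_UP hD φ h3 hM' hu
  rw [← nT_psi hD φ h3 hM] at this
  convert this using 1
  group

/-! ### Monomial elements -/

set_option quotPrecheck false in
local notation "Nam" => RGD.RootData.N (ChevBN.chevRGD hD rootsD4 K)

theorem nT_mem_Nam : nT hD (K := K) ∈ Nam := by
  rw [ChevBN.chev_N hD rootsD4]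
  exact Subgroup.mem_sup_right (Subgroup.subset_closure ⟨23, lt24 (by norm_num), ChevBN.coe_ng hD _ _⟩)

theorem nw_mem_Nam (l : List (Fin 2)) : (CC).rgd.nw l ∈ Nam := by
  rw [ChevBN.chev_N hD rootsD4]
  exact (CC).N_le_monomial ((CC).rgd.nw_mem_N l)

theorem perms_ng_list (L : List ℕ) (hL : ∀ k ∈ L, k < chevD4.nroots) :
    ChevInvolOdd.Perms hD ((L.map fun k => ChevBN.ng hD K k 1).prod : GL chevD4.Idx K) (wL chevD4 L) := by
  induction L with
  | nil => exact (ChevInvolOdd.perms_diag hD (one_mem _)).congr hD fun q _ => rfl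
  | cons k L ih =>
    rw [List.map_cons, List.prod_cons]
    exact ((ChevInvolOdd.perms_ng hD (hL k (by simp)) one_ne_zero).mul hD
      (ih fun j hj => hL j (List.mem_cons_of_mem _ hj))).congr hD fun q _ => rfl

theorem perms_nw : ∀ l : List (Fin 2),
    ChevInvolOdd.Perms hD ((CC).rgd.nw l : GL chevD4.Idx K) (wW d4Twist d4Node l)
  | [] => (ChevInvolOdd.perms_diag hD (one_mem _)).congr hD fun q _ => rfl
  | a :: l => by
    have e3 : ((CC).rgd.n a : GL chevD4.Idx K) =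
        (((List.range ((CC).L a)).map ((CC).rk a)).map fun k => ChevBN.ng hD K k 1).prod := by
      show (CC).ns a 1 = _
      simp only [Ctx.ns, Ctx.oprod, ← RingHom.coe_pow, map_one, List.map_map]
      rfl
    rw [(CC).rgd.nw_cons, e3]
    exact ((perms_ng_list hD _ fun k hk => by
      obtain ⟨i, -, rfl⟩ := List.mem_map.1 hk
      exact (CC).rk_lt a i).mul hD (perms_nw l)).congr hD fun q _ => by
        show wL chevD4 _ (wW d4Twist d4Node l q) = wW d4Twist d4Node (a :: l) q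
        rw [Ctx.wF_eq]; rfl

/-- The word of the reflection of the highest root. -/
def wTop : List (Fin 2) := [1, 0, 1, 0, 1]

theorem nT_nw_mem_H : (nT hD (K := K))⁻¹ * (CC).rgd.nw wTop ∈ (CC).rgd.H := by
  rw [← (CC).diagonal_inf_G0 rootsD4]
  refine ⟨ChevInvolOdd.mem_diag_of_perms hD rootsD4 (mul_mem (inv_mem (nT_mem_Nam hD)) (nw_mem_Nam hD φ _))
    fun q hq => ?_, (CC).G0.mul_mem ((CC).G0.inv_mem (nT_mem hD φ)) ?_⟩
  · have key : ∀ q < 24, wW d4Twist d4Node wTop q = Chev.refl chevD4 23 q := by decide +kernel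
    have hp : ChevInvolOdd.Perms hD ((nT hD (K := K))⁻¹) (Chev.refl chevD4 23) := by
      rw [nT, ChevBN.ng_inv]; exact ChevInvolOdd.perms_ng hD (lt24 (by norm_num)) (neg_ne_zero.2 one_ne_zero)
    have key2 : ∀ q < 24, Chev.refl chevD4 23 (Chev.refl chevD4 23 q) = q := by decide +kernel
    refine ((hp.mul hD (perms_nw hD φ wTop)).congr hD fun q hq => ?_) q hq
    have h24 : q < 24 := hq.trans_le (by decide +kernel)
    show Chev.refl chevD4 23 (wW d4Twist d4Node wTop q) = q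
    rw [key q h24, key2 q h24]
  · rw [← (CC).rgd_G]; exact (CC).rgd.N_le_G ((CC).rgd.nw_mem_N _)

/-! ### Rows and columns -/

theorem ht_top_bot : ∀ q < 24, (q ≠ 23 → ht chevD4 adjD4 q < ht chevD4 adjD4 23) ∧
    (q ≠ 0 → ht chevD4 adjD4 0 < ht chevD4 adjD4 q) ∧ ht chevD4 adjD4 23 > 0 ∧ ht chevD4 adjD4 0 < 0 := by
  decide +kernel

theorem wt_top {a : chevD4.Idx} (ha : a ≠ top) :
    ChevBN.wt chevD4 (ht chevD4 adjD4) a < ChevBN.wt chevD4 (ht chevD4 adjD4) top := by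
  rcases a with i | u
  · exact (ht_top_bot 0 (by norm_num)).2.2.1
  · exact (ht_top_bot u.val (u.isLt.trans_le (by decide +kernel))).1 fun h => ha (by
      show Sum.inr u = Sum.inr _; congr 1; exact Fin.ext h)

theorem wt_bot {a : chevD4.Idx} (ha : a ≠ bot) :
    ChevBN.wt chevD4 (ht chevD4 adjD4) bot < ChevBN.wt chevD4 (ht chevD4 adjD4) a := by
  rcases a with i | u
  · exact (ht_top_bot 0 (by norm_num)).2.2.2
  · exact (ht_top_bot u.val (u.isLt.trans_le (by decide +kernel))).2.1 fun h => ha (by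
      show Sum.inr u = Sum.inr _; congr 1; exact Fin.ext h)

include hD in
theorem pos_col {u : GL chevD4.Idx K} (hu : u ∈ chevD4.posUnipotent K) (a : chevD4.Idx) :
    (Mx u) a top = if a = top then 1 else 0 := by
  obtain ⟨h1, h2⟩ := ChevBN.uTri_pos hD rootsD4 hu
  split
  · next h => rw [h, h2]
  · next h =>
    by_contra hne
    rcases h1 a top hne with e | e
    · exact h e
    · exact absurd e (not_lt.2 (wt_top h).le)

include hD in
theorem pos_row {u : GL chevD4.Idx K} (hu : u ∈ chevD4.posUnipotent K) {b : chevD4.Idx} (hb : b ≠ bot) :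
    (Mx u) bot b = 0 := by
  obtain ⟨h1, -⟩ := ChevBN.uTri_pos hD rootsD4 hu
  by_contra hne
  rcases h1 bot b hne with e | e
  · exact hb e.symm
  · exact absurd e (not_lt.2 (wt_bot hb).le)

theorem nT_row {a : chevD4.Idx} (ha : a ≠ bot) : (Mx (nT hD (K := K))⁻¹) top a = 0 := by
  rw [nT, ChevBN.ng_inv]
  have e : (Mx ChevBN.ng hD K 23 (-1)) top a = (chevD4.nMat K 23 (-1) *ᵥ Pi.single a 1) top := by
    rw [Matrix.mulVec_single_one, ChevBN.coe_ng]; rfl
  rw [e]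
  rcases a with i | u
  · rw [hD.n_inl (lt24 (by norm_num)) (neg_ne_zero.2 one_ne_zero)]
    simp [hv, top, ix]
  · have hu : u.val < 24 := u.isLt.trans_le (by decide +kernel)
    have h2 := hD.n_root (lt24 (r := 23) (by norm_num)) u.isLt (neg_ne_zero.2 (one_ne_zero (α := K)))
    rw [ev_of_lt chevD4 K u.isLt, Fin.eta] at h2
    rw [h2]
    have key : ∀ q < 24, q ≠ 0 → Chev.refl chevD4 23 q ≠ 23 := by decide +kernel
    have hne : Chev.refl chevD4 23 u.val ≠ 23 := key u.val hu fun h => ha (by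
      show Sum.inr u = Sum.inr _
      congr 1
      exact Fin.ext h)
    simp [ev, top, ix, hne.symm]

theorem bot_bot {v : GL chevD4.Idx K} (hv : v ∈ chevD4.posUnipotent K) (a : chevD4.Idx) :
    (Mx ((nT hD)⁻¹ * v)) top a = if a = bot then (Mx (nT hD (K := K))⁻¹) top bot else 0 := by
  rw [Units.val_mul, Matrix.mul_apply, Finset.sum_eq_single bot (fun b _ hb => by rw [nT_row hD hb, zero_mul])
    (fun h => absurd (Finset.mem_univ _) h)]
  split
  · next h => subst h; rw [(ChevBN.uTri_pos hD rootsD4 hv).2, mul_one]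
  · next h => rw [pos_row hD hv h, mul_zero]

theorem row_UM {v : GL chevD4.Idx K} (hv : v ∈ UM hD φ) (a : chevD4.Idx) :
    (Mx v) top a = if a = top then 1 else 0 := by
  set y := nT hD * v * (nT hD)⁻¹
  have hy : y ∈ chevD4.posUnipotent K := posU_of_Upos hD φ (UP_le_Upos hD φ ((mem_UM hD φ).1 hv))
  have e : v = (nT hD)⁻¹ * y * nT hD := by simp only [y]; group
  have h1 : (Mx v) top a = ((Mx (nT hD)⁻¹) * (Mx nT hD) : Matrix chevD4.Idx chevD4.Idx K) top a := by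
    rw [e, Units.val_mul ((nT hD)⁻¹ * y), Matrix.mul_apply]
    show _ = ∑ b, (Mx (nT hD)⁻¹) top b * (Mx nT hD) b a
    refine Finset.sum_congr rfl fun b _ => ?_
    rw [bot_bot hD hy]
    split
    · next h => subst h; rfl
    · next h => rw [nT_row hD h]
  rw [h1, show ((Mx (nT hD)⁻¹) * (Mx nT hD) : Matrix chevD4.Idx chevD4.Idx K) = 1 from Units.inv_mul _, Matrix.one_apply]
  simp only [eq_comm]

theorem H_col {h : GL chevD4.Idx K} (hh : h ∈ (CC).rgd.H) {r : ℕ} (hr : r < chevD4.nroots) :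
    ∃ χ : K, χ ≠ 0 ∧ (d4Twist.rho r = r → φ χ = χ) ∧
      ∀ a, (Mx h) a (ix r hr) = if a = ix r hr then χ else 0 := by
  obtain ⟨x, hx, rfl⟩ := hh
  refine ⟨(chiX x r : K), Units.ne_zero _, fun hrho => ?_, fun a => ?_⟩
  · have := congrArg Units.val (chiX_rho d4Twist_ok hx hr)
    rw [hrho] at this
    exact this.symm
  · rw [coe_theta, ChevBN.dg, Matrix.diagonal_apply]
    split
    · next h => subst h; rfl
    · rfl

theorem nw_col (l : List (Fin 2)) {s : ℕ} (hs : s < chevD4.nroots) :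
    ∃ (z : K) (h : wW d4Twist d4Node l s < chevD4.nroots), z ≠ 0 ∧ φ z = z ∧
      ∀ a, (Mx ((CC).rgd.nw l)) a (ix s hs) = if a = ix (wW d4Twist d4Node l s) h then z else 0 := by
  obtain ⟨h1, z, hz, e⟩ := (CC).monomial_mulVec l hs
  refine ⟨(z : K), h1, by rcases hz with rfl | rfl <;> simp, by simp, fun a => ?_⟩
  have := congrFun e a
  rw [mulVec_ev chevD4 _ hs, ev_of_lt chevD4 K h1] at this
  rw [show (Mx ((CC).rgd.nw l)) a (ix s hs) = _ from this]
  simp only [Pi.smul_apply, Pi.single_apply, ix, smul_eq_mul, mul_ite, mul_one, mul_zero]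
  rfl

theorem exists_bruhat {g : GL chevD4.Idx K} (hg : g ∈ (CC).G0) :
    ∃ v ∈ (CC).rgd.Upos, ∃ h ∈ (CC).rgd.H, ∃ w ∈ D4.words, ∃ u ∈ (CC).rgd.Upos,
      g = v * h * (CC).rgd.nw w * u ∧ ∃ (c : K) (hγ : wW d4Twist d4Node w 23 < chevD4.nroots), c ≠ 0 ∧
        (d4Twist.rho (wW d4Twist d4Node w 23) = wW d4Twist d4Node w 23 → φ c = c) ∧
        ∀ a, (Mx (h * (CC).rgd.nw w * u)) a top = if a = ix (wW d4Twist d4Node w 23) hγ then c else 0 := by
  rw [← (CC).rgd_G] at hg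
  obtain ⟨b, hb, l, u, hu, rfl⟩ := (CC).rgd.exists_normalForm hg
  obtain ⟨v, hv, t, ht, rfl⟩ := (CC).rgd.exists_B hb
  obtain ⟨w, hw, k, hk, e⟩ := exists_word (φ := φ) hD l
  have hu' := (CC).rgd.Uminus_le_Upos l hu
  obtain ⟨z, hz1, hz, hzf, hzc⟩ := nw_col hD φ w (s := 23) (lt24 (by norm_num))
  obtain ⟨χ, hχ, hχf, hχc⟩ := H_col hD φ (mul_mem ht hk) hz1
  refine ⟨v, hv, t * k, mul_mem ht hk, w, hw, u, hu', by rw [e]; group, χ * z, hz1, mul_ne_zero hχ hz,
    fun hr => by rw [map_mul, hχf hr, hzf], fun a => ?_⟩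
  rw [col_mul (b := top) (pos_col hD (posU_of_Upos hD φ hu')), mul_one]
  rw [show top = ix 23 (lt24 (by norm_num)) from rfl, col_mul (b := ix _ hz1) hzc, hχc]
  split <;> simp

theorem words_bot : ∀ w ∈ D4.words, wW d4Twist d4Node w 23 = 0 → w = wTop ∨ w = 0 :: wTop := by decide +kernel

/-- An element with nonzero coefficient at the highest root vector lies in the big cell. -/
theorem cell (h3 : ∀ t, φ (φ (φ t)) = t) {g : GL chevD4.Idx K} (hg : g ∈ (CC).G0) (hf : (Mx g) top top ≠ 0) :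
    ∃ v ∈ UM hD φ, ∃ M : GL (Fin 2) K, DFix φ M ∧ ∃ u ∈ UP hD φ,
      g = v * psi hD φ M * u ∧ (M : Matrix (Fin 2) (Fin 2) K).det = (Mx g) top top := by
  obtain ⟨v, hv, h, hh, w, hw, u, hu, e, c, hγ, hc, -, hcol⟩ :=
    exists_bruhat hD φ (mul_mem (nT_mem hD φ) hg)
  have hγ0 : wW d4Twist d4Node w 23 = 0 := by
    by_contra hne
    apply hf
    have e1 : g = (nT hD)⁻¹ * v * (h * (CC).rgd.nw w * u) := by
      rw [show g = (nT hD)⁻¹ * (nT hD * g) by group, e]; group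
    rw [e1, col_mul hcol, bot_bot hD (posU_of_Upos hD φ hv),
      if_neg fun e => hne (by simpa [ix, bot] using e), zero_mul]
  obtain ⟨k, hk, a, ha, rfl⟩ := (CC).rgd.exists_Upos (i := (0 : Fin 2)) hv
  obtain ⟨t, rfl⟩ := mem_simple0 hD φ ha
  obtain ⟨k', hk', a', ha', rfl⟩ := (CC).rgd.exists_Upos (i := (0 : Fin 2)) hu
  obtain ⟨t', rfl⟩ := mem_simple0 hD φ ha'
  have ho : InL hD φ (o 18 t) := by rw [← TwistMult.D4.phiA_X]; exact inL_phiA hD φ _
  have ho' : InL hD φ (o 18 t') := by rw [← TwistMult.D4.phiA_X]; exact inL_phiA hD φ _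
  set A := (nT hD (K := K))⁻¹ * (CC).rgd.nw wTop with hA
  have hAL : InL hD φ A := inL_H hD φ h3 (nT_nw_mem_H hD φ)
  obtain ⟨B, hB, eB⟩ : ∃ B, InL hD φ B ∧ o 18 t * h * (CC).rgd.nw w = B * nT hD * A := by
    rcases words_bot w hw hγ0 with rfl | rfl
    · exact ⟨_, ho.mul hD φ h3 (inL_H hD φ h3 hh), by rw [hA]; group⟩
    · refine ⟨_, (ho.mul hD φ h3 (inL_H hD φ h3 hh)).mul hD φ h3 (inL_n0 hD φ), ?_⟩
      rw [(CC).rgd.nw_cons, hA]
      group
  obtain ⟨B0, hB0, rfl⟩ := hB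
  have hB' : InL hD φ ((nT hD)⁻¹ * psi hD φ B0 * nT hD) :=
    ⟨nTImage B0, by rw [DFix, gdet_nTImage]; exact dfix_inv φ hB0, nT_psi_inv hD φ h3 hB0⟩
  obtain ⟨M, hM, eM⟩ := (hB'.mul hD φ h3 hAL).mul hD φ h3 ho'
  have hvUM : (nT hD)⁻¹ * k * nT hD ∈ UM hD φ := by rw [mem_UM, show nT hD * ((nT hD)⁻¹ * k * nT hD) * (nT hD)⁻¹ = k by group]; exact hk
  have hu2 : (o 18 t')⁻¹ * k' * (o 18 t')⁻¹⁻¹ ∈ UP hD φ :=
    (CC).rgd.U_conj_Udel _ (inv_mem (orb18_mem hD φ h3 t')) _ hk'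
  have eg : g = (nT hD)⁻¹ * k * nT hD * psi hD φ M * ((o 18 t')⁻¹ * k' * (o 18 t')⁻¹⁻¹) := by
    rw [← eM, show g = (nT hD)⁻¹ * (nT hD * g) by group, e,
      show k * o 18 t * h * (CC).rgd.nw w * (k' * o 18 t') = k * (o 18 t * h * (CC).rgd.nw w) * (k' * o 18 t') by
        group, eB]
    group
  refine ⟨_, hvUM, M, hM, _, hu2, eg, ?_⟩
  rw [eg, col_mul (pos_col hD (posU_of_Upos hD φ (UP_le_Upos hD φ hu2))), mul_one, col_mul (psi_col hD φ M),
    row_UM hD φ hvUM, if_pos rfl, one_mul]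

/-! ### A conjugate with prescribed coefficient -/

theorem words_long : ∀ w ∈ D4.words, wW d4Twist d4Node w 23 ∈ [0, 1, 9, 14, 22, 23] := by decide +kernel

theorem coe_gx (r : ℕ) (hr : r < chevD4.nroots) (t : K) : (Mx gx hD K r t) = xR chevD4 K r t :=
  x_eq_xR chevD4 hr t

theorem row14 (t : K) (a : chevD4.Idx) : (Mx gx hD K 14 t) top a =
    if a = top then 1 else if a = ix 22 (lt24 (by norm_num)) then t else 0 := by
  have k2' : ∀ q < 24, q ≠ 14 → q ≠ chevD4.negIdx.getD 14 0 → chevD4.chainCoeff 14 q 23 =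
      if q = 22 then [((1 : ℕ), (1 : ℤ))] else [] := by decide +kernel
  obtain ⟨k1, k3, k4⟩ : (14 : ℕ) ≠ 23 ∧ chevD4.neg 14 ≠ 23 ∧ chevD4.neg 14 ≠ 22 := by decide +kernel
  rw [coe_gx hD 14 (lt24 (by norm_num))]
  rcases a with i | u
  · simp [xR, top, ix, Fin.ext_iff, Ne.symm k1]
  · have k2 := k2' u.val (u.isLt.trans_le (by decide +kernel))
    simp only [xR, top, ix, Matrix.of_apply, Sum.inr.injEq, Fin.ext_iff]
    by_cases h1 : u.val = 14
    · simp [h1, Ne.symm k1]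
    · by_cases h2 : u.val = chevD4.neg 14
      · simp [h2, k3, k3.symm, Ne.symm k1, k4, h2 ▸ h1]
      · rw [if_neg h1, if_neg h2, k2 h1 h2]
        by_cases h3 : u.val = 22
        · simp [h3]
        · simp [h3, eq_comm]

theorem row22 (t : K) (a : chevD4.Idx) : (Mx gx hD K 22 t) top a =
    if a = top then 1 else if a = ix 14 (lt24 (by norm_num)) then -t else 0 := by
  have k2' : ∀ q < 24, q ≠ 22 → q ≠ chevD4.negIdx.getD 22 0 → chevD4.chainCoeff 22 q 23 =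
      if q = 14 then [((1 : ℕ), (-1 : ℤ))] else [] := by decide +kernel
  obtain ⟨k1, k3, k4⟩ : (22 : ℕ) ≠ 23 ∧ chevD4.neg 22 ≠ 23 ∧ chevD4.neg 22 ≠ 14 := by decide +kernel
  rw [coe_gx hD 22 (lt24 (by norm_num))]
  rcases a with i | u
  · simp [xR, top, ix, Fin.ext_iff, Ne.symm k1]
  · have k2 := k2' u.val (u.isLt.trans_le (by decide +kernel))
    simp only [xR, top, ix, Matrix.of_apply, Sum.inr.injEq, Fin.ext_iff]
    by_cases h1 : u.val = 22
    · simp [h1, Ne.symm k1]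
    · by_cases h2 : u.val = chevD4.neg 22
      · simp [h2, k3, k3.symm, Ne.symm k1, k4, h2 ▸ h1]
      · rw [if_neg h1, if_neg h2, k2 h1 h2]
        by_cases h3 : u.val = 14
        · simp [h3]
        · simp [h3, eq_comm]

theorem zint_table :
    (xR chevD4 ℤ 23 1) top (ix 9 (lt24 (by norm_num))) = 0 ∧
    (xR chevD4 ℤ 23 1) (ix 22 (lt24 (by norm_num))) (ix 9 (lt24 (by norm_num))) = -1 ∧
    (xR chevD4 ℤ 23 1) top (ix 1 (lt24 (by norm_num))) = 0 ∧
    (xR chevD4 ℤ 23 1) (ix 14 (lt24 (by norm_num))) (ix 1 (lt24 (by norm_num))) = 1 ∧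
    (xR chevD4 ℤ 22 1 * xR chevD4 ℤ 23 1) top bot = -1 ∧
    (xR chevD4 ℤ 22 1 * xR chevD4 ℤ 23 1) (ix 22 (lt24 (by norm_num))) bot = -1 := by decide +kernel

theorem row_sum {A B : GL chevD4.Idx K} {c : K} {b j : chevD4.Idx} (hb : b ≠ top)
    (hA : ∀ a, (Mx A) top a = if a = top then 1 else if a = b then c else 0) :
    (Mx (A * B)) top j = (Mx B) top j + c * (Mx B) b j := by
  rw [Units.val_mul, Matrix.mul_apply, ← Finset.sum_subset (Finset.subset_univ {top, b}), Finset.sum_pair hb.symm,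
    hA, hA, if_pos rfl, if_neg hb, if_pos rfl, one_mul]
  intro x _ hx
  simp only [Finset.mem_insert, Finset.mem_singleton, not_or] at hx
  rw [hA, if_neg hx.1, if_neg hx.2, zero_mul]

theorem exists_entry {γ : ℕ} (hγ : γ < chevD4.nroots) (h : γ ∈ [0, 1, 9, 14, 22]) {a : K} (ha : φ a = a) :
    ∃ x ∈ (CC).rgd.Upos, (Mx x) top (ix γ hγ) = a := by
  have hU : ∀ r ∈ [14, 22, 23], ∀ t : K, φ t = t → gx hD K r t ∈ (CC).rgd.Upos := fun r hr t ht => by
    have key : ∀ r ∈ [14, 22, 23], r ∈ d4Twist.reps ∧ d4Twist.len r = 1 ∧ 0 < d4Twist.ht r := by decide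
    obtain ⟨h1, h2, h3⟩ := key r hr
    rw [← (CC).orb_of_len_one h2]
    exact (CC).rgd.U_le_Upos (r := ⟨r, h1⟩) h3 ((CC).orb_mem_Uo h1 (by
      show (⇑φ)^[d4Twist.len r] t = t
      rw [h2]; exact ht))
  obtain ⟨z1, z2, z3, z4, z5, z6⟩ := zint_table
  have hne : ∀ (r : ℕ) (hr : r < chevD4.nroots), r ≠ 23 → ix r hr ≠ top := fun r hr h e => h (by simpa [ix, top] using e)
  have hint : ∀ r < 24, (Mx gx hD K r 1) = (xR chevD4 ℤ r 1).map (Int.castRingHom K) := fun r hr => by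
    rw [coe_gx hD r (lt24 hr), xR_map, map_one]
  have h1f : φ (1 : K) = 1 := map_one φ
  simp only [List.mem_cons, List.not_mem_nil, or_false] at h
  rcases h with rfl | rfl | rfl | rfl | rfl
  · refine ⟨gx hD K 14 (-(a + 1)) * (gx hD K 22 1 * gx hD K 23 1), mul_mem (hU _ (by simp) _ (by simp [ha]))
      (mul_mem (hU _ (by simp) _ h1f) (hU _ (by simp) _ h1f)), ?_⟩
    rw [row_sum (hne 22 (lt24 (by norm_num)) (by norm_num)) (row14 hD _), Units.val_mul, hint 22 (by norm_num),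
      hint 23 (by norm_num), ← Matrix.map_mul]
    simp only [Matrix.map_apply, show ix 0 hγ = bot from rfl, z5, z6]
    simp
  · refine ⟨gx hD K 22 (-a) * gx hD K 23 1, mul_mem (hU _ (by simp) _ (by simp [ha])) (hU _ (by simp) _ h1f), ?_⟩
    rw [row_sum (hne 14 (lt24 (by norm_num)) (by norm_num)) (row22 hD _), hint 23 (by norm_num)]
    simp [Matrix.map_apply, z3, z4]
  · refine ⟨gx hD K 14 (-a) * gx hD K 23 1, mul_mem (hU _ (by simp) _ (by simp [ha])) (hU _ (by simp) _ h1f), ?_⟩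
    rw [row_sum (hne 22 (lt24 (by norm_num)) (by norm_num)) (row14 hD _), hint 23 (by norm_num)]
    simp [Matrix.map_apply, z1, z2]
  · refine ⟨gx hD K 22 (-a), hU _ (by simp) _ (by simp [ha]), ?_⟩
    rw [row22, if_neg (hne 14 hγ (by norm_num)), if_pos rfl, _root_.neg_neg]
  · refine ⟨gx hD K 14 a, hU _ (by simp) _ ha, ?_⟩
    rw [row14, if_neg (hne 22 hγ (by norm_num)), if_pos rfl]

/-- Multiplying the highest root vector by a scalar. -/
def FixLine (g : GL chevD4.Idx K) : Prop := ∃ c : K, ∀ a, (Mx g) a top = if a = top then c else 0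

theorem FixLine.mul {g h : GL chevD4.Idx K} : FixLine g → FixLine h → FixLine (g * h) := by
  rintro ⟨c, hc⟩ ⟨d, hd⟩
  exact ⟨c * d, fun a => by rw [col_mul hd, hc]; split <;> simp⟩

theorem FixLine.inv {g : GL chevD4.Idx K} : FixLine g → FixLine g⁻¹ := by
  rintro ⟨c, hc⟩
  refine ⟨c⁻¹, fun a => ?_⟩
  have h : ∀ b, (1 : Matrix chevD4.Idx chevD4.Idx K) b top = (Mx g⁻¹) b top * c := fun b => by
    rw [← col_mul hc, inv_mul_cancel, Units.val_one]
  have hc0 : c ≠ 0 := fun e => by simpa [e] using h top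
  have h' := h a
  rw [Matrix.one_apply] at h'
  split at h'
  · next e => rw [if_pos e, eq_comm, inv_eq_of_mul_eq_one_left h'.symm]
  · next e => rw [if_neg e]; exact (mul_eq_zero.1 h'.symm).resolve_right hc0

theorem exists_conj_not_fix (hs : IsSimpleGroup ↥(CC).G0) {g : GL chevD4.Idx K} (hg : g ∈ (CC).G0)
    (h1 : g ≠ 1) : ∃ k ∈ (CC).G0, ¬ FixLine (k * g * k⁻¹) := by
  by_contra hcon
  push Not at hcon
  let N : Subgroup ↥(CC).G0 :=
    { carrier := {x | ∀ k : ↥(CC).G0, FixLine ((k * x * k⁻¹ : ↥(CC).G0) : GL chevD4.Idx K)}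
      one_mem' := fun k => by
        refine ⟨1, fun a => ?_⟩
        simp [Matrix.one_apply]
      mul_mem' := fun {x y} hx hy k => by
        rw [show k * (x * y) * k⁻¹ = (k * x * k⁻¹) * (k * y * k⁻¹) by group, Subgroup.coe_mul]
        exact (hx k).mul (hy k)
      inv_mem' := fun {x} hx k => by
        rw [show k * x⁻¹ * k⁻¹ = (k * x * k⁻¹)⁻¹ by group, Subgroup.coe_inv]
        exact (hx k).inv }
  have hN : N.Normal := ⟨fun x hx k k' => by
    rw [show k' * (k * x * k⁻¹) * k'⁻¹ = (k' * k) * x * (k' * k)⁻¹ by group]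
    exact hx _⟩
  rcases hN.eq_bot_or_eq_top with h | h
  · have : (⟨g, hg⟩ : ↥(CC).G0) ∈ N := fun k => hcon k k.2
    rw [h, Subgroup.mem_bot] at this
    exact h1 (congrArg Subtype.val this)
  · have hn : (⟨nT hD, nT_mem hD φ⟩ : ↥(CC).G0) ∈ N := h ▸ Subgroup.mem_top _
    have h2 := hn 1
    simp only [one_mul, inv_one, mul_one] at h2
    obtain ⟨c, hc⟩ := h2
    have h3 : (Mx ((nT hD)⁻¹ * nT hD)) top top = 0 := by
      rw [col_mul hc, nT_row hD (by simp [top, bot, ix]), zero_mul]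
    rw [inv_mul_cancel, Units.val_one, Matrix.one_apply_eq] at h3
    exact one_ne_zero h3

theorem exists_conj_coeff (hs : IsSimpleGroup ↥(CC).G0) {g : GL chevD4.Idx K} (hg : g ∈ (CC).G0)
    (h1 : g ≠ 1) {a : K} (ha : φ a = a) : ∃ k ∈ (CC).G0, (Mx (k * g * k⁻¹)) top top = a := by
  obtain ⟨k, hk, hnot⟩ := exists_conj_not_fix hD φ hs hg h1
  obtain ⟨v, hv, h, hh, w, hw, u, hu, e, c, hγ, hc, hcf, hcol⟩ :=
    exists_bruhat hD φ (mul_mem (mul_mem hk hg) (inv_mem hk))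
  have hne : wW d4Twist d4Node w 23 ≠ 23 := fun hp11 => hnot ⟨c, fun a => by
    rw [e, show v * h * (CC).rgd.nw w * u = v * (h * (CC).rgd.nw w * u) by group, col_mul hcol]
    simp only [hp11, show ix 23 (lt24 (by norm_num)) = top from rfl]
    rw [pos_col hD (posU_of_Upos hD φ hv)]
    split <;> simp⟩
  have hmem : wW d4Twist d4Node w 23 ∈ [0, 1, 9, 14, 22] := by
    have := words_long w hw
    simp only [List.mem_cons, List.not_mem_nil, or_false] at this ⊢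
    tauto
  have key : ∀ r ∈ [0, 1, 9, 14, 22], d4Twist.rho r = r := by decide
  obtain ⟨x, hx, hxa⟩ := exists_entry hD φ hγ hmem (a := a / c) (by rw [map_div₀, ha, hcf (key _ hmem)])
  refine ⟨x * (v⁻¹ * k), mul_mem (Upos_le_G0 hD φ hx) (mul_mem (inv_mem (Upos_le_G0 hD φ hv)) hk), ?_⟩
  rw [show x * (v⁻¹ * k) * g * (x * (v⁻¹ * k))⁻¹ = x * (v⁻¹ * (k * g * k⁻¹)) * (v * x⁻¹) by group, e,
    show x * (v⁻¹ * (v * h * (CC).rgd.nw w * u)) * (v * x⁻¹) = x * (h * (CC).rgd.nw w * u) * (v * x⁻¹) by group,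
    col_mul (pos_col hD (posU_of_Upos hD φ (mul_mem hv (inv_mem hx)))), mul_one, col_mul hcol, hxa,
    div_mul_cancel₀ _ hc]

end Cfsg.Agent.D4Thompson
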