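/-
Matrices of root elements of D4 over the field with eight elements, as bit planes.

* `dec`: a matrix from a list of rows, each three numbers of 28 bits;
* `dec_stepX`, `dec_stepD`: left multiplication by a root element and by a diagonal torus element.
-/
import Cfsg.Agent.EqLemmas
import Cfsg.Agent.Lib.Chev.Matrix
import Cfsg.Agent.Lib.Chev.DataD4

set_option autoImplicit false
set_option linter.unusedSectionVars false
set_option maxRecDepth 100000

namespace Cfsg.Agent.D4Thompson.Two

open Cfsg.Lie Cfsg.Lie.ChevalleyDatum Cfsg.Agent.Chev Matrix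

variable {K : Type*} [Field K] [CharP K 2] (α : K)

/-- A bit. -/
def bit (n j : ℕ) : K := if n.testBit j then 1 else 0

theorem bit_xor (m n j : ℕ) : (bit (m ^^^ n) j : K) = bit m j + bit n j := by
  simp only [bit, Nat.testBit_xor]
  cases m.testBit j <;> cases n.testBit j <;> simp [CharTwo.add_self_eq_zero]

theorem bit_zero (j : ℕ) : (bit 0 j : K) = 0 := by simp [bit]

/-- The element of a code below eight. -/
def enc (t : ℕ) : K := bit t 0 + bit t 1 * α + bit t 2 * α ^ 2

/-- The square of a code. -/
def sqc (t : ℕ) : ℕ := [0, 1, 4, 5, 6, 7, 2, 3].getD t 0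

/-- The powers of α as codes. -/
def powc (e : ℕ) : ℕ := [1, 2, 4, 3, 6, 7, 5].getD e 0

/-- Three bit planes. -/
abbrev Row := ℕ × ℕ × ℕ

/-- The entry of a row. -/
def ent (R : Row) (j : ℕ) : K := bit R.1 j + bit R.2.1 j * α + bit R.2.2 j * α ^ 2

/-- The sum of two rows. -/
def addR (R S : Row) : Row := (R.1 ^^^ S.1, R.2.1 ^^^ S.2.1, R.2.2 ^^^ S.2.2)

/-- A row times a code. -/
def mulR (t : ℕ) (R : Row) : Row :=
  addR (if t.testBit 0 then R else (0, 0, 0))
    (addR (if t.testBit 1 then (R.2.2, R.1 ^^^ R.2.2, R.2.1) else (0, 0, 0))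
      (if t.testBit 2 then (R.2.1, R.2.1 ^^^ R.2.2, R.1 ^^^ R.2.2) else (0, 0, 0)))

theorem ent_addR (R S : Row) (j : ℕ) : ent α (addR R S) j = ent α R j + ent α S j := by
  simp only [ent, addR, bit_xor]; ring

theorem ent_zero (j : ℕ) : ent α (0, 0, 0) j = 0 := by simp [ent, bit_zero]

theorem enc_zero : enc α 0 = 0 := by simp [enc, bit_zero]

theorem enc_one : enc α 1 = 1 := by simp [enc, bit, Nat.testBit]

section Root

variable {α} (hα : α ^ 3 = α + 1)
include hα

theorem ent_mulR (t : ℕ) (R : Row) (j : ℕ) : ent α (mulR t R) j = enc α t * ent α R j := by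
  have h4 : α ^ 4 = α ^ 2 + α := by rw [pow_succ, hα]; ring
  have hr : ∀ (c : Bool) (S : Row), ent α (if c then S else (0, 0, 0)) j =
      (if c then (1 : K) else 0) * ent α S j := fun c S => by
    cases c <;> simp [ent_zero]
  simp only [mulR, ent_addR, hr, enc, bit]
  have h1 : ent α (R.2.2, R.1 ^^^ R.2.2, R.2.1) j = α * ent α R j := by
    simp only [ent, bit_xor]
    linear_combination (-(bit R.2.2 j : K)) * hα
  have h2 : ent α (R.2.1, R.2.1 ^^^ R.2.2, R.1 ^^^ R.2.2) j = α ^ 2 * ent α R j := by
    simp only [ent, bit_xor]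
    linear_combination (-(bit R.2.1 j : K)) * hα + (-(bit R.2.2 j : K)) * h4
  rw [h1, h2]
  ring

theorem enc_sqc {t : ℕ} (ht : t < 8) : enc α (sqc t) = enc α t ^ 2 := by
  have h4 : α ^ 4 = α ^ 2 + α := by rw [pow_succ, hα]; ring
  have h2 : (2 : K) = 0 := CharTwo.two_eq_zero
  interval_cases t <;> simp [sqc, enc, bit, Nat.testBit, Nat.shiftRight_eq_div_pow]
  · linear_combination (-1 : K) * h2 * α
  · linear_combination (-1 : K) * h4
  · linear_combination (-1 : K) * h4 + (-α ^ 2) * h2
  · linear_combination (-1 : K) * h4 + (-α ^ 3 - α ^ 2) * h2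
  · linear_combination (-1 : K) * h4 + (-(α + α ^ 2 + α ^ 3) - α ^ 2) * h2

theorem enc_powc {e : ℕ} (he : e < 7) : enc α (powc e) = α ^ e := by
  have h2 : (2 : K) = 0 := CharTwo.two_eq_zero
  interval_cases e <;> simp [powc, enc, bit, Nat.testBit, Nat.shiftRight_eq_div_pow]
  · linear_combination (-1 : K) * hα
  · linear_combination (-α) * hα
  · linear_combination (-(α ^ 2 + 1)) * hα
  · linear_combination (-(α ^ 3 + α + 1)) * hα + (-α) * h2

end Root

/-! ### Matrices -/

/-- The number of a coordinate. -/
def pos : chevD4.Idx → ℕ := Sum.elim Fin.val fun s => 4 + s.val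

/-- The matrix of a list of rows. -/
def dec (M : List Row) : Matrix chevD4.Idx chevD4.Idx K :=
  Matrix.of fun a b => ent α (M.getD (pos a) (0, 0, 0)) (pos b)

/-- The coefficients of t and t² of a root element. -/
def coef (r : ℕ) (a b : chevD4.Idx) : ℤ × ℤ :=
  match b, a with
  | Sum.inl _, Sum.inl _ => (0, 0)
  | Sum.inl i, Sum.inr u => (if u.val = r then - chevD4.cartan i.val r else 0, 0)
  | Sum.inr s, Sum.inl i =>
    if s.val = r then (0, 0)
    else if s.val = chevD4.neg r then ((chevD4.coroot.getD r #[]).getD i.val 0, 0) else (0, 0)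
  | Sum.inr s, Sum.inr u =>
    if s.val = r then (0, 0)
    else if s.val = chevD4.neg r then (0, if u = s then 0 else if u.val = r then -1 else 0)
    else (((chevD4.chainCoeff r s.val u.val).map Prod.snd).sum, 0)

theorem chain_one : ∀ r < 24, ∀ s < 24, ∀ u < 24, ∀ km ∈ chevD4.chainCoeff r s u, km.1 = 1 := by decide +kernel

theorem xR_coef {r : ℕ} (hr : r < 24) (t : K) (a b : chevD4.Idx) :
    xR chevD4 K r t a b = (if a = b then 1 else 0) + ((coef r a b).1 : K) * t + ((coef r a b).2 : K) * t ^ 2 := by
  have h24 : ∀ x : Fin chevD4.nroots, x.val < 24 := fun x => x.isLt.trans_le (by decide +kernel)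
  rcases a with i | u <;> rcases b with j | s <;> simp only [xR, coef, Matrix.of_apply]
  · simp [Sum.inl.injEq]
  · simp only [reduceCtorEq, if_false]; split_ifs <;> simp_all
  · split_ifs <;> simp_all
  · have hk := chain_one r hr s.val (h24 s) u.val (h24 u)
    have e : ((chevD4.chainCoeff r s.val u.val).map fun km => ((km.2 : ℤ) : K) * t ^ km.1).sum =
        ((((chevD4.chainCoeff r s.val u.val).map Prod.snd).sum : ℤ) : K) * t := by
      suffices ∀ L : List (ℕ × ℤ), (∀ km ∈ L, km.1 = 1) →
          (L.map fun km => ((km.2 : ℤ) : K) * t ^ km.1).sum = (((L.map Prod.snd).sum : ℤ) : K) * t from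
        this _ hk
      intro L
      induction L with
      | nil => simp
      | cons km L ih =>
        intro hk
        simp only [List.map_cons, List.sum_cons, Int.cast_add]
        rw [ih (fun x hx => hk x (List.mem_cons_of_mem _ hx)), hk km (by simp), pow_one]
        ring
    rw [e]
    simp only [Fin.ext_iff, Sum.inr.injEq]
    split_ifs <;> simp_all

/-- For each root and row, the rows added with factor t. -/
def term1 (r u : ℕ) : List ℕ :=
  ([
    [[27], [], [27], [27], [1], [18], [19], [20], [21], [], [23], [24], [25], [26], [], [], [], [], [], [], [], [], [], [], [], [], [], []],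
    [[26], [26], [26], [26], [13], [0,1,2,3], [16], [17], [], [21], [22], [], [], [], [24], [25], [], [], [27], [], [], [], [], [], [], [], [], []],
    [[25], [25], [25], [], [12], [15], [0,2,3], [], [17], [20], [], [22], [], [], [23], [], [26], [], [], [27], [], [], [], [], [], [], [], []],
    [[24], [24], [], [24], [11], [14], [], [0,2,3], [16], [19], [], [], [22], [], [], [23], [], [26], [], [], [27], [], [], [], [], [], [], []],
    [[23], [23], [], [], [10], [], [14], [15], [0,1,2,3], [18], [], [], [], [22], [], [], [24], [25], [], [], [], [27], [], [], [], [], [], []],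
    [[22], [], [], [], [], [10], [11], [12], [13], [1], [], [], [], [], [], [], [], [], [23], [24], [25], [26], [], [], [], [], [], []],
    [[], [21], [21], [21], [8], [9], [], [], [], [], [0,2,3], [16], [17], [], [19], [20], [], [], [], [], [], [], [26], [27], [], [], [], []],
    [[], [20], [20], [], [7], [], [9], [], [], [], [15], [0,1,2,3], [], [17], [18], [], [21], [], [], [], [], [], [25], [], [27], [], [], []],
    [[], [19], [], [19], [6], [], [], [9], [], [], [14], [], [0,1,2,3], [16], [], [18], [], [21], [], [], [], [], [24], [], [], [27], [], []],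
    [[], [18], [], [], [5], [], [], [], [9], [], [], [14], [15], [0,2,3], [], [], [19], [20], [], [], [], [], [23], [], [], [], [27], []],
    [[], [], [17], [], [], [7], [8], [], [], [], [12], [13], [], [], [1], [], [], [], [20], [21], [], [], [], [25], [26], [], [], []],
    [[], [], [], [16], [], [6], [], [8], [], [], [11], [], [13], [], [], [1], [], [], [19], [], [21], [], [], [24], [], [26], [], []],
    [[], [], [], [15], [], [], [5], [], [7], [], [], [10], [], [12], [], [], [1], [], [], [18], [], [20], [], [], [23], [], [25], []],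
    [[], [], [14], [], [], [], [], [5], [6], [], [], [], [10], [11], [], [], [], [1], [], [], [18], [19], [], [], [], [23], [24], []],
    [[], [13], [], [], [], [4], [], [], [], [8], [], [], [], [], [11], [12], [], [], [0,2,3], [16], [17], [], [], [22], [], [], [], [26]],
    [[], [12], [], [12], [], [], [4], [], [], [7], [], [], [], [], [10], [], [13], [], [15], [0,1,2,3], [], [17], [], [], [22], [], [], [25]],
    [[], [11], [11], [], [], [], [], [4], [], [6], [], [], [], [], [], [10], [], [13], [14], [], [0,1,2,3], [16], [], [], [], [22], [], [24]],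
    [[], [10], [10], [10], [], [], [], [], [4], [5], [], [], [], [], [], [], [11], [12], [], [14], [15], [0,2,3], [], [], [], [], [22], [23]],
    [[9], [], [], [], [], [], [], [], [], [], [5], [6], [7], [8], [], [], [], [], [], [], [], [], [1], [18], [19], [20], [21], []],
    [[8], [8], [], [], [], [], [], [], [], [], [4], [], [], [], [6], [7], [], [], [9], [], [], [], [13], [0,1,2,3], [16], [17], [], [21]],
    [[7], [7], [], [7], [], [], [], [], [], [], [], [4], [], [], [5], [], [8], [], [], [9], [], [], [12], [15], [0,2,3], [], [17], [20]],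
    [[6], [6], [6], [], [], [], [], [], [], [], [], [], [4], [], [], [5], [], [8], [], [], [9], [], [11], [14], [], [0,2,3], [16], [19]],
    [[5], [5], [5], [5], [], [], [], [], [], [], [], [], [], [4], [], [], [6], [7], [], [], [], [9], [10], [], [14], [15], [0,1,2,3], [18]],
    [[4], [], [4], [4], [], [], [], [], [], [], [], [], [], [], [], [], [], [], [5], [6], [7], [8], [], [10], [11], [12], [13], [1]]
  ] : List (List (List ℕ))).getD r [] |>.getD u []

/-- For each root and row, the rows added with factor t². -/
def term2 (r u : ℕ) : List ℕ := if u = 4 + r then [4 + (23 - r)] else []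

theorem term_ok : ∀ r < 24, ∀ a b : chevD4.Idx,
    (coef r a b).1 % 2 = ((term1 r (pos a)).count (pos b) % 2 : ℕ) ∧
    (coef r a b).2 % 2 = ((term2 r (pos a)).count (pos b) % 2 : ℕ) := by decide +kernel

theorem term_lt : ∀ r < 24, ∀ u < 28, (∀ s ∈ term1 r u, s < 28) ∧ ∀ s ∈ term2 r u, s < 28 := by decide +kernel

/-- Left multiplication by a root element. -/
def stepX (r t t2 : ℕ) (M : List Row) : List Row :=
  (List.range 28).map fun u =>
    addR (M.getD u (0, 0, 0)) (addR
      ((term1 r u).foldr (fun s A => addR (mulR t (M.getD s (0, 0, 0))) A) (0, 0, 0))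
      ((term2 r u).foldr (fun s A => addR (mulR t2 (M.getD s (0, 0, 0))) A) (0, 0, 0)))

theorem pos_lt (a : chevD4.Idx) : pos a < 28 := by
  rcases a with i | u
  · exact lt_of_lt_of_le i.isLt (by decide +kernel)
  · exact lt_of_lt_of_le (show 4 + u.val < 4 + chevD4.nroots by omega) (by decide +kernel)

theorem pos_surj : ∀ j < 28, ∃ a : chevD4.Idx, pos a = j := by decide +kernel

theorem pos_inj : Function.Injective pos := by decide +kernel

theorem sum_count {L : List ℕ} (hL : ∀ s ∈ L, s < 28) (g : ℕ → K) :
    ∑ b : chevD4.Idx, ((L.count (pos b) : ℕ) : K) * g (pos b) = (L.map g).sum := by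
  induction L with
  | nil => simp
  | cons s L ih =>
    obtain ⟨a, ha⟩ := pos_surj s (hL s (by simp))
    simp only [List.count_cons, Nat.cast_add, add_mul, Finset.sum_add_distrib, List.map_cons, List.sum_cons]
    rw [ih fun x hx => hL x (List.mem_cons_of_mem _ hx), Finset.sum_eq_single a
      (fun b _ hb => by
        have : ¬ s = pos b := fun h => hb (pos_inj (h.symm.trans ha.symm))
        simp [this])
      (fun h => absurd (Finset.mem_univ a) h), ha]
    simp [add_comm]

theorem cast_of_mod {z : ℤ} {n : ℕ} (h : z % 2 = ((n % 2 : ℕ) : ℤ)) : (z : K) = (n : K) := by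
  rw [← Int.cast_natCast (R := K) n, ← sub_eq_zero, ← Int.cast_sub, CharP.intCast_eq_zero_iff K 2]
  omega

theorem dec_stepX (hα : α ^ 3 = α + 1) {r t t2 : ℕ} (hr : r < 24) (h2 : enc α t2 = enc α t ^ 2) (M : List Row) :
    dec α (stepX r t t2 M) = xR chevD4 K r (enc α t) * dec α M := by
  ext a b
  obtain ⟨l1, l2⟩ := term_lt r hr (pos a) (pos_lt a)
  simp only [Matrix.mul_apply, xR_coef hr, add_mul, Finset.sum_add_distrib, mul_assoc]
  have hfold : ∀ (c : ℕ) (L : List ℕ), ent α (L.foldr (fun s A => addR (mulR c (M.getD s (0, 0, 0))) A) (0, 0, 0)) (pos b) =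
      (L.map fun s => enc α c * ent α (M.getD s (0, 0, 0)) (pos b)).sum := fun c L => by
    induction L with
    | nil => simp [ent_zero]
    | cons s L ih => rw [List.foldr_cons, ent_addR, ent_mulR hα, ih, List.map_cons, List.sum_cons]
  simp only [dec, Matrix.of_apply, stepX]
  rw [List.getD_eq_getElem?_getD, List.getElem?_map, List.getElem?_range (pos_lt a), Option.map_some, Option.getD_some,
    ent_addR, ent_addR, hfold, hfold, ← sum_count l1, ← sum_count l2, ← h2]
  simp only [cast_of_mod (K := K) (term_ok r hr a _).1, cast_of_mod (K := K) (term_ok r hr a _).2]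
  simp [Finset.sum_ite_eq, add_assoc, mul_assoc]

/-- The exponent of the torus element at a root. -/
def expo (j : ℕ) : ℕ :=
  if j < 4 then 0 else
    ((chevD4.cartan 0 (j - 4) + 2 * chevD4.cartan 2 (j - 4) + 4 * chevD4.cartan 3 (j - 4)) % 7).toNat

/-- Left multiplication by a torus element. -/
def stepD (k : ℕ) (M : List Row) : List Row :=
  (List.range 28).map fun u => mulR (powc (expo u * k % 7)) (M.getD u (0, 0, 0))

theorem dec_stepD (hα : α ^ 3 = α + 1) (k : ℕ) (M : List Row) :
    dec α (stepD k M) = Matrix.diagonal (fun a => α ^ (expo (pos a) * k % 7)) * dec α M := by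
  ext a b
  simp only [dec, Matrix.of_apply, Matrix.diagonal_mul, stepD]
  rw [List.getD_eq_getElem?_getD, List.getElem?_map, List.getElem?_range (pos_lt a), Option.map_some, Option.getD_some,
    ent_mulR hα, enc_powc hα (Nat.mod_lt _ (by norm_num))]

/-- The identity. -/
def oneM : List Row := (List.range 28).map fun u => (2 ^ u, 0, 0)

theorem dec_oneM : dec α oneM = 1 := by
  ext a b
  simp only [dec, Matrix.of_apply, oneM]
  rw [List.getD_eq_getElem?_getD, List.getElem?_map, List.getElem?_range (pos_lt a), Option.map_some, Option.getD_some,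
    Matrix.one_apply]
  simp [ent, bit, Nat.testBit_two_pow, pos_inj.eq_iff]

end Cfsg.Agent.D4Thompson.Two
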