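/-
Words in root elements for the small triality group, and the certificates of the big cell.

* `Letter`, `run`: products of root and torus elements as rows of bit planes;
* `cert_ok`: for each Weyl word outside the parabolic, a conjugate in the cell of an element of order three.
-/
import Cfsg.Agent.EqLemmas
import Cfsg.Agent.Lib.D4Thompson.Table
import Cfsg.Agent.Lib.TwistE6D4.Data

set_option autoImplicit false
set_option linter.unusedSectionVars false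
set_option maxRecDepth 100000

namespace Cfsg.Agent.D4Thompson.Two

/-- A root element with a code, or a torus element with an exponent. -/
inductive Letter where
  | x (r t : ℕ) : Letter
  | d (k : ℕ) : Letter

/-- One step. -/
def Letter.step : Letter → List Row → List Row
  | .x r t, M => stepX r t (sqc t) M
  | .d k, M => stepD k M

/-- The rows of a product. -/
def run (L : List Letter) : List Row := L.foldr Letter.step oneM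

/-- The letters of an orbit element. -/
def orbL (r t : ℕ) : List Letter :=
  (List.range (TwistE6D4.d4Twist.len r)).map fun i => .x (TwistE6D4.d4Twist.rho^[i] r) (sqc^[i] t)

/-- The letters of the simple representatives. -/
def nodeL (a : Fin 2) : List Letter :=
  if a = 0 then orbL 18 1 ++ orbL 5 1 ++ orbL 18 1 else orbL 14 1 ++ orbL 9 1 ++ orbL 14 1

/-- The letters of a word of representatives. -/
def wordL (w : List (Fin 2)) : List Letter := w.flatMap nodeL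

/-- The roots of the radical and of its opposite. -/
def upR : List ℕ := [18, 15, 17, 22, 23]

/-- The roots of the opposite radical. -/
def umR : List ℕ := [5, 4, 2, 1, 0]

/-- A product of orbit elements. -/
def radL (R ts : List ℕ) : List Letter := ((R.zip ts).flatMap fun e => orbL e.1 e.2)

/-- The element of order three. -/
def cL (i : ℕ) : List Letter := (List.range i).flatMap fun _ => orbL 14 1 ++ orbL 9 1

/-- Word, torus exponent, last parameter, and the certificate. -/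
abbrev Cert := List (Fin 2) × ℕ × ℕ × List ℕ × List ℕ × ℕ × List ℕ

/-- The certificates. -/
def certs : List Cert :=
  [
    ([0], 0, 0, [1, 0, 0, 0, 0], [1, 0, 0, 0, 0], 0, [1, 0, 0, 0, 0]),
    ([0], 0, 1, [1, 0, 0, 1, 0], [1, 0, 0, 0, 0], 0, [1, 0, 0, 0, 0]),
    ([0, 1], 0, 0, [1, 0, 0, 1, 0], [1, 0, 0, 0, 0], 2, [1, 1, 1, 1, 0]),
    ([0, 1], 0, 1, [1, 0, 0, 0, 0], [1, 0, 0, 0, 0], 1, [0, 1, 0, 0, 0]),
    ([1, 0], 0, 0, [0, 1, 0, 0, 1], [0, 1, 0, 0, 0], 1, [1, 1, 1, 1, 0]),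
    ([1, 0], 0, 1, [0, 1, 0, 0, 0], [0, 1, 0, 0, 0], 1, [1, 1, 1, 1, 0]),
    ([0, 1, 0], 0, 0, [0, 0, 0, 1, 0], [0, 0, 0, 1, 0], 0, [0, 0, 0, 1, 0]),
    ([0, 1, 0], 0, 1, [0, 0, 0, 1, 1], [0, 0, 0, 1, 0], 0, [0, 0, 0, 1, 0]),
    ([0, 1, 0], 1, 0, [1, 0, 4, 1, 0], [3, 2, 3, 1, 0], 2, [5, 4, 4, 0, 1]),
    ([0, 1, 0], 1, 1, [1, 0, 5, 0, 0], [1, 2, 0, 0, 0], 1, [5, 2, 6, 1, 1]),
    ([0, 1, 0], 3, 0, [1, 0, 6, 0, 0], [1, 3, 0, 0, 0], 1, [6, 1, 6, 1, 0]),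
    ([0, 1, 0], 3, 1, [1, 0, 6, 0, 1], [1, 3, 0, 0, 0], 1, [6, 1, 6, 1, 0]),
    ([1, 0, 1], 0, 0, [0, 1, 0, 0, 0], [0, 1, 0, 0, 0], 0, [0, 1, 0, 0, 0]),
    ([1, 0, 1], 0, 1, [0, 1, 0, 0, 1], [0, 1, 0, 0, 0], 2, [1, 0, 0, 0, 0]),
    ([0, 1, 0, 1], 0, 0, [0, 0, 0, 1, 1], [0, 0, 0, 1, 0], 2, [0, 0, 0, 1, 1]),
    ([0, 1, 0, 1], 0, 1, [0, 0, 0, 1, 0], [0, 0, 0, 1, 0], 1, [0, 0, 0, 0, 1]),
    ([0, 1, 0, 1], 1, 0, [1, 0, 5, 0, 0], [1, 2, 0, 0, 0], 0, [1, 3, 0, 0, 0]),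
    ([0, 1, 0, 1], 1, 1, [1, 0, 4, 1, 0], [3, 2, 3, 1, 0], 0, [6, 7, 0, 0, 0]),
    ([0, 1, 0, 1], 3, 0, [1, 0, 6, 0, 1], [1, 3, 0, 0, 0], 0, [7, 4, 3, 1, 0]),
    ([0, 1, 0, 1], 3, 1, [1, 0, 6, 0, 0], [1, 3, 0, 0, 0], 2, [1, 5, 1, 1, 0]),
    ([1, 0, 1, 0], 0, 0, [0, 0, 0, 1, 1], [0, 0, 0, 0, 1], 1, [0, 0, 0, 1, 1]),
    ([1, 0, 1, 0], 0, 1, [0, 0, 0, 0, 1], [0, 0, 0, 0, 1], 1, [0, 0, 0, 1, 1]),
    ([1, 0, 1, 0], 1, 0, [0, 1, 5, 0, 0], [2, 1, 6, 1, 0], 0, [5, 1, 4, 0, 1]),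
    ([1, 0, 1, 0], 1, 1, [1, 6, 0, 0, 0], [1, 4, 3, 0, 0], 2, [1, 1, 3, 1, 0]),
    ([1, 0, 1, 0], 3, 0, [1, 7, 0, 0, 0], [1, 6, 4, 0, 1], 0, [1, 0, 3, 0, 0]),
    ([1, 0, 1, 0], 3, 1, [0, 1, 6, 0, 0], [3, 1, 6, 0, 1], 0, [6, 5, 5, 0, 0]),
    ([0, 1, 0, 1, 0], 0, 0, [0, 0, 1, 0, 0], [0, 0, 1, 0, 0], 0, [0, 0, 1, 0, 0]),
    ([0, 1, 0, 1, 0], 0, 1, [0, 0, 1, 0, 1], [1, 0, 1, 0, 0], 0, [0, 1, 1, 0, 1]),
    ([1, 0, 1, 0, 1], 0, 0, [0, 0, 0, 0, 1], [0, 0, 0, 0, 1], 0, [0, 0, 0, 0, 1]),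
    ([1, 0, 1, 0, 1], 0, 1, [0, 0, 0, 1, 1], [0, 0, 0, 0, 1], 2, [0, 0, 0, 1, 0]),
    ([1, 0, 1, 0, 1], 1, 0, [1, 6, 0, 0, 0], [1, 4, 3, 0, 0], 1, [0, 1, 2, 0, 0]),
    ([1, 0, 1, 0, 1], 1, 1, [0, 1, 5, 0, 0], [2, 1, 6, 1, 0], 1, [1, 2, 1, 1, 1]),
    ([1, 0, 1, 0, 1], 3, 0, [0, 1, 6, 0, 0], [3, 1, 6, 0, 1], 2, [1, 4, 0, 0, 0]),
    ([1, 0, 1, 0, 1], 3, 1, [1, 7, 0, 0, 0], [1, 6, 4, 0, 1], 1, [0, 1, 3, 0, 0]),
    ([0, 1, 0, 1, 0, 1], 0, 0, [0, 0, 1, 0, 1], [1, 0, 1, 0, 0], 2, [1, 0, 1, 1, 0]),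
    ([0, 1, 0, 1, 0, 1], 0, 1, [0, 0, 1, 0, 0], [0, 0, 1, 0, 0], 1, [0, 0, 1, 0, 0])]

/-- The left side. -/
def lhsL : Cert → List Letter
  | (w, k, s, x, _) => radL upR x ++ (.d k :: wordL w) ++ orbL 14 s

/-- The right side. -/
def rhsL : Cert → List Letter
  | (_, _, _, _, v, i, u) => radL umR v ++ cL i ++ radL upR u

/-- The parameters are in range. -/
def Fine : Cert → Prop
  | (_, _, s, x, v, i, u) => s < 2 ∧ i < 3 ∧ ∀ l ∈ [(upR, x), (umR, v), (upR, u)],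
      ∀ e ∈ (l.1.zip l.2 : List (ℕ × ℕ)), e.2 < 8 ∧ (TwistE6D4.d4Twist.len e.1 = 1 → e.2 < 2)

instance (c : Cert) : Decidable (Fine c) := by
  obtain ⟨w, k, s, x, v, i, u⟩ := c
  unfold Fine
  infer_instance

theorem cert_ok : ∀ c ∈ certs, run (lhsL c) = run (rhsL c) := by decide +kernel

theorem cert_fine : ∀ c ∈ certs, Fine c := by decide +kernel

end Cfsg.Agent.D4Thompson.Two
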