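/-
Products of two conjugates of a semisimple element of the Levi subgroup of ³D₄.

* `Free M`: `psi M` has no fixed points on the radical and its opposite;
* `split_free`, `ell_free`: regular torus elements and elliptic elements are free;
* `cover_of_factor`: a factorisation in GL₂ gives products of two conjugates;
* `exists_even`, `exists_odd`: the fields of even order at least 4 and of odd order.
-/
import Cfsg.Agent.EqLemmas
import Cfsg.Agent.Lib.D4Thompson.Cell
import Cfsg.Agent.Lib.G2Thompson.Cover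
import Mathlib.FieldTheory.Finite.Basic
import Mathlib.RingTheory.IntegralDomain

set_option autoImplicit false
set_option linter.unusedSectionVars false
set_option maxRecDepth 100000

namespace Cfsg.Agent.D4Thompson

open Cfsg.Lie Cfsg.Lie.ChevalleyDatum Cfsg.Agent.Chev Cfsg.Agent.TwistE6D4 Cfsg.Agent.TwistE6D4.D4
  Cfsg.Agent.Chev.RankOne Matrix
open G2Thompson (dgl gdet coe_gdet gdet_mul gdet_dgl sl2_induction exists_conj_translate)
open scoped MatrixGroups

variable {K : Type*} [Field K] (hD : Good chevD4) (φ : K →+* K)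

local notation "CC" => ctxD4 hD φ
local notation "o" => orb hD d4Twist φ

/-- `psi M` centralises no nontrivial element of the radical. -/
def UPFree (M : GL (Fin 2) K) : Prop := ∀ u ∈ UP hD φ, psi hD φ M * u = u * psi hD φ M → u = 1

/-- No fixed points on both radicals. -/
def Free (M : GL (Fin 2) K) : Prop := UPFree hD φ M ∧ UPFree hD φ (nTImage M)

/-- A conjugate of `psi X` without fixed points on both radicals. -/
def Good1 (X M : GL (Fin 2) K) : Prop :=
  DFix φ M ∧ Free hD φ M ∧ ∃ a ∈ (CC).G0, psi hD φ M = a * psi hD φ X * a⁻¹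

theorem dfix_nTImage {M : GL (Fin 2) K} (hM : DFix φ M) : DFix φ (nTImage M) := by
  rw [DFix, gdet_nTImage]; exact dfix_inv φ hM

theorem nTImage_nTImage (M : GL (Fin 2) K) : nTImage (nTImage M) = M := by
  apply Units.ext
  rw [nTImage, gdet_nTImage, inv_inv, nTImage]
  simp only [Units.val_mul]
  ext i j; fin_cases i <;> fin_cases j <;> simp [dgl, Matrix.mul_apply, Fin.sum_univ_two]

theorem dgl_central (a : Kˣ) (P : GL (Fin 2) K) : dgl a a * P = P * dgl a a := by
  apply Units.ext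
  simp only [Units.val_mul]
  ext i j; fin_cases i <;> fin_cases j <;> simp [dgl, Matrix.mul_apply, Fin.sum_univ_two, mul_comm]

theorem gdet_slGL (S : SL(2, K)) : gdet (slGL S) = 1 := Units.ext (by rw [coe_gdet, det_slGL, Units.val_one])

theorem gdet_sl_conj (S : SL(2, K)) (M : GL (Fin 2) K) : gdet (slGL S * M * (slGL S)⁻¹) = gdet M := by
  rw [← map_inv slGL, gdet_mul, gdet_mul, gdet_slGL, gdet_slGL, one_mul, mul_one]

theorem nTImage_conj (S : SL(2, K)) (M : GL (Fin 2) K) :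
    nTImage (slGL S * M * (slGL S)⁻¹) = slGL S * nTImage M * (slGL S)⁻¹ := by
  rw [nTImage, nTImage, gdet_sl_conj, mul_assoc, ← dgl_central]
  group

theorem UPFree.conj (h3 : ∀ t, φ (φ (φ t)) = t) {M : GL (Fin 2) K} (hM : DFix φ M) (h : UPFree hD φ M)
    (S : SL(2, K)) : UPFree hD φ (slGL S * M * (slGL S)⁻¹) := by
  intro u hu e
  rw [psi_conj hD φ h3 S hM] at e
  set a := TwistMult.D4.phiA hD φ S with ha
  have hu' : a⁻¹ * u * a ∈ UP hD φ := by
    have := phiA_norm_UP hD φ h3 S⁻¹ u hu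
    rwa [map_inv, ← ha, inv_inv] at this
  have := h _ hu' (by
    calc psi hD φ M * (a⁻¹ * u * a) = a⁻¹ * (a * psi hD φ M * a⁻¹ * u) * a := by group
      _ = _ := by rw [e]; group)
  calc u = a * (a⁻¹ * u * a) * a⁻¹ := by group
    _ = 1 := by rw [this]; group

theorem Free.conj (h3 : ∀ t, φ (φ (φ t)) = t) {M : GL (Fin 2) K} (hM : DFix φ M) (h : Free hD φ M)
    (S : SL(2, K)) : Free hD φ (slGL S * M * (slGL S)⁻¹) :=
  ⟨h.1.conj hD φ h3 hM S, by rw [nTImage_conj]; exact h.2.conj hD φ h3 (dfix_nTImage φ hM) S⟩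

theorem Free.um (h3 : ∀ t, φ (φ (φ t)) = t) {M : GL (Fin 2) K} (hM : DFix φ M) (h : Free hD φ M) :
    ∀ u ∈ UM hD φ, psi hD φ M * u = u * psi hD φ M → u = 1 := by
  intro u hu e
  have := h.2 _ ((mem_UM hD φ).1 hu) (by
    rw [← nT_psi hD φ h3 hM]
    calc nT hD * psi hD φ M * (nT hD)⁻¹ * (nT hD * u * (nT hD)⁻¹) =
          nT hD * (psi hD φ M * u) * (nT hD)⁻¹ := by group
      _ = _ := by rw [e]; group)
  exact conj_eq_one_iff.1 this

theorem good1_conj (h3 : ∀ t, φ (φ (φ t)) = t) {X : GL (Fin 2) K} (hX : DFix φ X) (hf : Free hD φ X)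
    (S : SL(2, K)) : Good1 hD φ X (slGL S * X * (slGL S)⁻¹) :=
  ⟨by rw [DFix, gdet_sl_conj]; exact hX, hf.conj hD φ h3 hX S, _, phiA_mem hD φ h3 S, psi_conj hD φ h3 S hX⟩

theorem good1_nT (h3 : ∀ t, φ (φ (φ t)) = t) {X : GL (Fin 2) K} (hX : DFix φ X) (hf : Free hD φ X)
    {M : GL (Fin 2) K} (hM : DFix φ M) {S : SL(2, K)} (h : nTImage M = slGL S * X * (slGL S)⁻¹) :
    Good1 hD φ X M := by
  obtain ⟨-, h1, a, ha, e⟩ := good1_conj hD φ h3 hX hf S
  rw [← h] at h1 e
  refine ⟨hM, ⟨by simpa [nTImage_nTImage] using h1.2, h1.1⟩, (nT hD)⁻¹ * a,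
    mul_mem (inv_mem (nT_mem hD φ)) ha, ?_⟩
  rw [← nT_psi hD φ h3 hM] at e
  calc psi hD φ M = (nT hD)⁻¹ * (nT hD * psi hD φ M * (nT hD)⁻¹) * nT hD := by group
    _ = _ := by rw [e]; group

/-- A factorisation in GL₂ gives the covering. -/
theorem cover_of_factor [Finite K] (h3 : ∀ t, φ (φ (φ t)) = t) (hs : IsSimpleGroup ↥(CC).G0)
    {X : GL (Fin 2) K} {a : K} (ha : φ a = a) (ha0 : a ≠ 0)
    (hfac : ∀ M : GL (Fin 2) K, DFix φ M → (M : Matrix (Fin 2) (Fin 2) K).det = a →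
      ∃ N₁ N₂, Good1 hD φ X N₁ ∧ Good1 hD φ X N₂ ∧ M = N₁ * N₂)
    {g : GL chevD4.Idx K} (hg : g ∈ (CC).G0) (h1 : g ≠ 1) :
    ∃ b ∈ (CC).G0, ∃ c ∈ (CC).G0, g = b * psi hD φ X * b⁻¹ * (c * psi hD φ X * c⁻¹) := by
  obtain ⟨k, hk, hkc⟩ := exists_conj_coeff hD φ hs hg h1 ha
  obtain ⟨v, hv, M, hM, u, hu, e, hdet⟩ := cell hD φ h3 (mul_mem (mul_mem hk hg) (inv_mem hk))
    (by rw [hkc]; exact ha0)
  obtain ⟨N₁, N₂, ⟨d1, f1, a1, ha1, e1⟩, ⟨d2, f2, a2, ha2, e2⟩, eM⟩ := hfac M hM (hdet.trans hkc)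
  have := Fintype.ofFinite K
  classical
  obtain ⟨⟨x, hx, ex⟩, -⟩ := exists_conj_translate (A := UM hD φ) (m := psi hD φ N₁)
    (fun y hy => psi_norm_UM hD φ h3 d1 hy)
    (fun y hy => by
      have := psi_norm_UM hD φ h3 (M := N₁⁻¹) (by
        rw [DFix, show gdet N₁⁻¹ = (gdet N₁)⁻¹ from eq_inv_of_mul_eq_one_left (by
          rw [← gdet_mul, inv_mul_cancel]; exact Units.ext (by rw [coe_gdet]; simp))]
        exact dfix_inv φ d1) hy
      rwa [psi_inv hD φ h3 d1, inv_inv] at this)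
    (f1.um hD φ h3 d1) hv
  obtain ⟨-, y, hy, ey⟩ := exists_conj_translate (A := UP hD φ) (m := psi hD φ N₂)
    (fun y hy => psi_norm_UP hD φ h3 d2 hy)
    (fun y hy => by
      have := psi_norm_UP hD φ h3 (M := N₂⁻¹) (by
        rw [DFix, show gdet N₂⁻¹ = (gdet N₂)⁻¹ from eq_inv_of_mul_eq_one_left (by
          rw [← gdet_mul, inv_mul_cancel]; exact Units.ext (by rw [coe_gdet]; simp))]
        exact dfix_inv φ d2) hy
      rwa [psi_inv hD φ h3 d2, inv_inv] at this)
    f2.1 hu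
  refine ⟨k⁻¹ * x * a1, mul_mem (mul_mem (inv_mem hk) (UM_le_G0 hD φ hx)) ha1,
    k⁻¹ * y * a2, mul_mem (mul_mem (inv_mem hk) (UP_le_G0 hD φ hy)) ha2, ?_⟩
  rw [show g = k⁻¹ * (k * g * k⁻¹) * k by group, e, eM, psi_mul hD φ h3 d1,
    show v * (psi hD φ N₁ * psi hD φ N₂) * u = (v * psi hD φ N₁) * (psi hD φ N₂ * u) by group, ← ex, ← ey, e1, e2]
  group

/-! ### Elements of the radical commuting with torus elements -/

theorem six_scale (h3 : ∀ t, φ (φ (φ t)) = t) (l n : Kˣ) (hn : φ (n : K) = n) {x y z w v e : K}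
    (h : torG φ l n * (o 18 x * o 14 y * o 15 z * o 17 w * o 22 v * o 23 e) =
      o 18 x * o 14 y * o 15 z * o 17 w * o 22 v * o 23 e * torG φ l n) :
    (l : K) ^ 2 / n * x = x ∧ (n : K) ^ 2 / (l * φ l * φ (φ l)) * y = y ∧
      n * φ (φ l) / (l * φ l) * z = z ∧ φ l * φ (φ l) / l * w = w ∧ l * φ l * φ (φ l) / n * v = v ∧
      (n : K) * e = e := by
  obtain ⟨c18, c14, c15, -, c17, c22, c23, -⟩ := chi_values (φ := φ) l n
  have hcj : torG φ l n * (o 18 x * o 14 y * o 15 z * o 17 w * o 22 v * o 23 e) * (torG φ l n)⁻¹ =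
      o 18 ((l : K) ^ 2 / n * x) * o 14 ((n : K) ^ 2 / (l * φ l * φ (φ l)) * y) *
        o 15 (n * φ (φ l) / (l * φ l) * z) * o 17 (φ l * φ (φ l) / l * w) *
        o 22 (l * φ l * φ (φ l) / n * v) * o 23 ((n : K) * e) := by
    rw [← c18, ← c14, ← c15, ← c17, ← c22, ← c23, ← torG_conj hD φ l n h3 hn (r := 18) (by decide) x,
      ← torG_conj hD φ l n h3 hn (r := 14) (by decide) y, ← torG_conj hD φ l n h3 hn (r := 15) (by decide) z,
      ← torG_conj hD φ l n h3 hn (r := 17) (by decide) w, ← torG_conj hD φ l n h3 hn (r := 22) (by decide) v,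
      ← torG_conj hD φ l n h3 hn (r := 23) (by decide) e]
    group
  rw [h, mul_inv_cancel_right] at hcj
  exact six_inj hD hcj.symm

theorem orb18_udel (h3 : ∀ t, φ (φ (φ t)) = t) {x : K} (h : o 18 x ∈ UP hD φ) : x = 0 := by
  set R := (CC).rgd
  have h1 := R.n_conj_U (0 : Fin 2) _ _ (orb18_mem hD φ h3 x)
  rw [R.w_simple] at h1
  have h2 : R.n (0 : Fin 2) * o 18 x * (R.n (0 : Fin 2))⁻¹ ∈ R.B :=
    R.Udel_le_B _ (R.n_conj_Udel _ _ h)
  have h4 : R.n (0 : Fin 2) * o 18 x * (R.n (0 : Fin 2))⁻¹ = 1 := by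
    rw [← Subgroup.mem_bot, ← R.B_inf_V]
    exact ⟨h2, R.U_le_Vneg (fun hp => (R.pos_neg _).1 hp (R.pos_simple _)) h1⟩
  exact (CC).orb_inj (show 18 ∈ d4Twist.reps by decide)
    ((conj_eq_one_iff.1 h4).trans ((CC).orb_zero 18).symm)

theorem orb23_UP {e : K} (he : φ e = e) : o 23 e ∈ UP hD φ :=
  (CC).rgd.U_le_span (r := (⟨23, by decide⟩ : {r // r ∈ d4Twist.reps}))
    (A := {s | (CC).rgd.pos s ∧ s ≠ (CC).rgd.simple (0 : Fin 2)})
    ⟨show 0 < d4Twist.ht 23 by decide, fun h => absurd (congrArg Subtype.val h)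
      (show (23 : ℕ) ≠ chevD4.simple (d4Node 0).val by decide +kernel)⟩
    ((CC).orb_mem_Uo (show 23 ∈ d4Twist.reps by decide) (by
      show (⇑φ)^[d4Twist.len 23] e = e
      rw [show d4Twist.len 23 = 1 by decide]; exact he))

theorem phiA_comm_top (S : SL(2, K)) (e : K) : Commute (TwistMult.D4.phiA hD φ S) (o 23 e) := by
  have hfree : ∀ r ∈ [18, 13, 12, 5, 10, 11], D4Heis.Free r 23 := by decide +kernel
  have key : ∀ r ∈ [18, 5], ∀ i < d4Twist.len r, d4Twist.rho^[i] r ∈ [18, 13, 12, 5, 10, 11] := by decide +kernel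
  have e23 : o 23 e = gx hD K 23 e := (CC).orb_of_len_one (show d4Twist.len 23 = 1 by decide) e
  have horb : ∀ r ∈ [18, 5], ∀ t : K, Commute (o r t) (o 23 e) := by
    intro r hr t
    rw [e23]
    refine Commute.list_prod_left _ _ fun g hg => ?_
    obtain ⟨i, hi, rfl⟩ := List.mem_map.1 hg
    exact (hfree _ (key r hr i (List.mem_range.1 hi))).commute hD _ _
  exact sl2_induction (P := fun S => Commute (TwistMult.D4.phiA hD φ S) (o 23 e))
    (fun t => by rw [TwistMult.D4.phiA_X]; exact horb 18 (by simp) t)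
    (fun t => by rw [TwistMult.D4.phiA_Y]; exact horb 5 (by simp) t)
    (fun a b ha hb => by rw [map_mul]; exact ha.mul_left hb) S

/-- An element with a power equal to minus one and determinant minus one. -/
theorem ell_free (h3 : ∀ t, φ (φ (φ t)) = t) (h2 : (2 : K) ≠ 0) {M : GL (Fin 2) K} (hd : gdet M = -1) {k : ℕ}
    (hk : M ^ k = dgl (-1) (-1)) : UPFree hD φ M := by
  intro u hu hc
  have hM : DFix φ M := by rw [DFix, hd]; simp
  obtain ⟨x, y, z, w, v, e, -, -, -, -, -, he, rfl⟩ := normal hD φ (UP_le_Upos hD φ hu)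
  have hpow := Commute.pow_left hc k
  rw [← psi_pow hD φ h3 hM, hk, psi_dgl, neg_mul_neg, one_mul] at hpow
  obtain ⟨-, hy, hz, hw, hv, -⟩ := six_scale hD φ h3 (-1) 1 (map_one φ) hpow.eq
  have h20 : ∀ t : K, -t = t → t = 0 := fun t h =>
    (mul_eq_zero.1 (show (2 : K) * t = 0 by linear_combination -h)).resolve_left h2
  simp at hy hz hw hv
  obtain rfl := h20 y (by linear_combination hy)
  obtain rfl := h20 z (by linear_combination hz)
  obtain rfl := h20 w (by linear_combination hw)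
  obtain rfl := h20 v (by linear_combination hv)
  simp only [(CC).orb_zero, mul_one] at hu hc ⊢
  obtain rfl : x = 0 := orb18_udel hD φ h3 (by
    have := mul_mem hu (inv_mem (orb23_UP hD φ he))
    rwa [mul_inv_cancel_right] at this)
  rw [(CC).orb_zero, one_mul] at hc ⊢
  rw [psi, hd] at hc
  have e1 := torG_conj hD φ 1 (-1) h3 (by simp) (r := 23) (by decide) e
  rw [(chi_values (φ := φ) 1 (-1 : Kˣ)).2.2.2.2.2.2.1] at e1
  have e2 : o 23 (((-1 : Kˣ) : K) * e) = o 23 e := by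
    set S := TwistMult.D4.phiA hD φ (G2Thompson.slPart M)
    set T := torG φ (1 : Kˣ) (-1)
    have hS : Commute S (o 23 (((-1 : Kˣ) : K) * e)) := phiA_comm_top hD φ _ _
    rw [← e1] at hS ⊢
    calc T * o 23 e * T⁻¹ = S⁻¹ * (S * (T * o 23 e * T⁻¹)) := by group
      _ = S⁻¹ * (T * o 23 e * T⁻¹ * S) := by rw [hS.eq]
      _ = S⁻¹ * (S * (T * o 23 e * T⁻¹)) := by rw [hS.eq]
      _ = S⁻¹ * ((S * T * o 23 e) * T⁻¹) := by group
      _ = S⁻¹ * (o 23 e * (S * T) * T⁻¹) := by rw [hc]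
      _ = S⁻¹ * (o 23 e * S) := by group
      _ = o 23 e := by rw [← (phiA_comm_top hD φ _ e).eq, inv_mul_cancel_left]
  have e3 := (CC).orb_inj (show 23 ∈ d4Twist.reps by decide) e2
  push_cast at e3
  rw [h20 e (by linear_combination e3), (CC).orb_zero]

/-- Conditions for a torus element to be regular. -/
structure SplitCond (l n : Kˣ) : Prop where
  c1 : (l : K) ^ 2 ≠ n
  c2 : (n : K) ^ 2 ≠ l * φ l * φ (φ l)
  c3 : (n : K) * φ (φ l) ≠ l * φ l
  c4 : φ l * φ (φ l) ≠ l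
  c5 : (l : K) * φ l * φ (φ l) ≠ n
  c6 : (n : K) ≠ 1

theorem split_free (h3 : ∀ t, φ (φ (φ t)) = t) {l n : Kˣ} (hn : φ (n : K) = n) (h : SplitCond φ l n) :
    UPFree hD φ (dgl l (l⁻¹ * n)) := by
  intro u hu hc
  obtain ⟨x, y, z, w, v, e, -, -, -, -, -, -, rfl⟩ := normal hD φ (UP_le_Upos hD φ hu)
  rw [psi_dgl, mul_inv_cancel_left] at hc
  obtain ⟨hx, hy, hz, hw, hv, he⟩ := six_scale hD φ h3 l n hn hc
  have key : ∀ {c d t : K}, d ≠ 0 → c ≠ d → c / d * t = t → t = 0 := fun {c d t} hd hcd e => by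
    by_contra ht
    exact hcd ((div_eq_one_iff_eq hd).1 ((mul_eq_right₀ ht).1 e))
  have hl : (l : K) ≠ 0 := l.ne_zero
  have hl1 : φ (l : K) ≠ 0 := by simp
  have hl2 : φ (φ (l : K)) ≠ 0 := by simp
  obtain rfl := key n.ne_zero h.c1 hx
  obtain rfl := key (mul_ne_zero (mul_ne_zero hl hl1) hl2) h.c2 hy
  obtain rfl := key (mul_ne_zero hl hl1) h.c3 hz
  obtain rfl := key hl h.c4 hw
  obtain rfl := key n.ne_zero h.c5 hv
  obtain rfl : e = 0 := by
    by_contra ht
    exact h.c6 ((mul_eq_right₀ ht).1 he)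
  simp only [(CC).orb_zero, mul_one]

theorem SplitCond.image (h3 : ∀ t, φ (φ (φ t)) = t) {l n : Kˣ} (hn : φ (n : K) = n) (h : SplitCond φ l n) :
    SplitCond φ (l * n⁻¹) n⁻¹ := by
  have hn0 : (n : K) ≠ 0 := n.ne_zero
  constructor <;> push_cast <;> (try simp only [map_mul, map_inv₀, hn]) <;> intro e <;> field_simp at e
  · exact h.c1 (by linear_combination e)
  · exact h.c5 (by linear_combination -e)
  · refine h.c4 ?_
    have := congrArg φ e
    simp only [map_mul, h3] at this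
    linear_combination -this
  · refine h.c3 ?_
    have := congrArg (fun t => φ (φ t)) e
    simp only [map_mul, h3, hn] at this
    linear_combination -this
  · exact h.c2 (by linear_combination -e)
  · exact h.c6 e.symm

theorem split_Free (h3 : ∀ t, φ (φ (φ t)) = t) {l n : Kˣ} (hn : φ (n : K) = n) (h : SplitCond φ l n) :
    Free hD φ (dgl l (l⁻¹ * n)) := by
  refine ⟨split_free hD φ h3 hn h, ?_⟩
  have e : nTImage (dgl l (l⁻¹ * n)) = dgl (l * n⁻¹) ((l * n⁻¹)⁻¹ * n⁻¹) := by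
    rw [nTImage, gdet_dgl, mul_inv_cancel_left]
    apply Units.ext
    simp only [Units.val_mul]
    ext i j; fin_cases i <;> fin_cases j <;> simp [dgl, Matrix.mul_apply, Fin.sum_univ_two] <;> field_simp
  rw [e]
  exact split_free hD φ h3 (dfix_inv φ hn) (h.image φ h3 hn)

/-! ### The two cases -/

variable [Fintype K]

theorem exists_orderOf {d : ℕ} (hd : d ∣ Fintype.card K - 1) : ∃ l : Kˣ, orderOf l = d := by
  classical
  obtain ⟨g, hg⟩ := IsCyclic.exists_generator (α := Kˣ)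
  have hord : orderOf g = Fintype.card K - 1 := by
    rw [orderOf_eq_card_of_forall_mem_zpowers hg, Nat.card_eq_fintype_card, Fintype.card_units]
  exact ⟨g ^ (orderOf g / d), orderOf_pow_orderOf_div (orderOf_pos g).ne' (hord ▸ hd)⟩

theorem exists_split_param {q : ℕ} (hpow : ∀ t : K, φ t = t ^ q) (hK : Fintype.card K = q ^ 3) (h2 : (2 : K) = 0)
    (hq : q = 4 ∨ 8 ≤ q) : ∃ l n : Kˣ, φ (n : K) = n ∧ SplitCond φ l n := by
  have hne : ∀ (l : Kˣ) (o' : ℕ), orderOf l = o' → ∀ a d : ℕ, 0 < d → d < o' → (l : K) ^ (a + d) ≠ (l : K) ^ a :=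
    fun l o' ho a d hd0 hd e => by
      rw [pow_add, mul_eq_left₀ (pow_ne_zero _ l.ne_zero)] at e
      exact pow_ne_one_of_lt_orderOf hd0.ne' (ho ▸ hd) (Units.ext (by rw [Units.val_pow_eq_pow_val, e, Units.val_one]))
  rcases hq with rfl | hq8
  · obtain ⟨l, hl⟩ := exists_orderOf (K := K) (d := 21) (by rw [hK]; norm_num)
    have e21 : (l : K) ^ 21 = 1 := by rw [← Units.val_pow_eq_pow_val, ← hl, pow_orderOf_eq_one, Units.val_one]
    have hl1 : φ (l : K) = (l : K) ^ 4 := hpow _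
    have hl2 : φ (φ (l : K)) = (l : K) ^ 16 := by rw [hl1, map_pow, hl1, ← pow_mul]
    have h := hne l 21 hl
    refine ⟨l, l ^ 7, ?_, ⟨?_, ?_, ?_, ?_, ?_, ?_⟩⟩ <;>
      simp only [Units.val_pow_eq_pow_val, hl2, hl1, map_pow, ← pow_mul, ← pow_add, ← pow_succ, ← pow_succ']
    · rw [show (l : K) ^ (4 * 7) = (l : K) ^ 21 * (l : K) ^ 7 by rw [← pow_add], e21, one_mul]
    · exact (h 2 5 (by norm_num) (by norm_num)).symm
    · exact (h 14 7 (by norm_num) (by norm_num)).symm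
    · exact h 5 18 (by norm_num) (by norm_num)
    · exact fun e => h 1 19 (by norm_num) (by norm_num) (by rw [e, pow_one])
    · exact h 7 14 (by norm_num) (by norm_num)
    · exact fun e => h 0 7 (by norm_num) (by norm_num) (by rw [e, pow_zero])
  · obtain ⟨l, hl⟩ := exists_orderOf (K := K) (d := q - 1) (by
      rw [hK]; simpa using Nat.sub_dvd_pow_sub_pow q 1 3)
    have hl1 : φ (l : K) = (l : K) := by
      rw [hpow, show q = (q - 1) + 1 by omega, pow_succ, ← Units.val_pow_eq_pow_val, ← hl, pow_orderOf_eq_one,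
        Units.val_one, one_mul]
    have h := hne l (q - 1) hl
    refine ⟨l, l ^ 4, ?_, ⟨?_, ?_, ?_, ?_, ?_, ?_⟩⟩ <;>
      simp only [Units.val_pow_eq_pow_val, hl1, map_pow, ← pow_mul, ← pow_add, ← pow_succ, ← pow_succ', ← sq]
    · exact (h 2 2 (by norm_num) (by omega)).symm
    · exact h 3 5 (by norm_num) (by omega)
    · exact h 2 3 (by norm_num) (by omega)
    · exact fun e => h 1 1 (by norm_num) (by omega) (by rw [e, pow_one])
    · exact (h 3 1 (by norm_num) (by omega)).symm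
    · exact fun e => h 0 4 (by norm_num) (by omega) (by rw [e, pow_zero])

theorem exists_even {q : ℕ} (h3 : ∀ t, φ (φ (φ t)) = t) (hpow : ∀ t : K, φ t = t ^ q)
    (hK : Fintype.card K = q ^ 3) (h2 : (2 : K) = 0) (hq : q = 4 ∨ 8 ≤ q) (hs : IsSimpleGroup ↥(CC).G0)
    (p : ℕ) [Fact p.Prime] [CharP K p] :
    ∃ x : ↥(CC).G0, ¬ p ∣ orderOf x ∧ ∀ g : ↥(CC).G0, g ≠ 1 →
      ∃ u v : ↥(CC).G0, g = (u * x * u⁻¹) * (v * x * v⁻¹) := by
  obtain ⟨l, n, hn, hc⟩ := exists_split_param φ hpow hK h2 hq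
  set X := dgl l (l⁻¹ * n) with hXdef
  have hX : DFix φ X := by rw [DFix, hXdef, gdet_dgl, mul_inv_cancel_left, hn]
  have hf : Free hD φ X := split_Free hD φ h3 hn hc
  refine ⟨⟨psi hD φ X, psi_mem hD φ h3 hX⟩, ?_, fun g hg => ?_⟩
  · classical
    obtain ⟨m, hm⟩ := FiniteField.card K p
    have e : ∀ k : ℕ, dgl l (l⁻¹ * n) ^ k = dgl (l ^ k) ((l⁻¹ * n) ^ k) := fun k => by
      induction k with
      | zero => apply Units.ext; ext i j; fin_cases i <;> fin_cases j <;> simp [dgl]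
      | succ k ih =>
        rw [pow_succ, ih]; apply Units.ext
        ext i j; fin_cases i <;> fin_cases j <;> simp [dgl, Matrix.mul_apply, Fin.sum_univ_two, pow_succ]
    intro hdvd
    have h1 : (⟨psi hD φ X, psi_mem hD φ h3 hX⟩ : ↥(CC).G0) ^ (Fintype.card K - 1) = 1 := by
      apply Subtype.ext
      show psi hD φ X ^ (Fintype.card K - 1) = 1
      rw [← psi_pow hD φ h3 hX, hXdef, e, ← Fintype.card_units, pow_card_eq_one, pow_card_eq_one, psi_dgl,
        one_mul, torG_one]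
    have h4 : p ∣ Fintype.card K := by rw [hm.2]; exact dvd_pow_self p m.pos.ne'
    have := Nat.dvd_sub h4 (hdvd.trans (orderOf_dvd_of_pow_eq_one h1))
    have := Fintype.one_lt_card (α := K)
    rw [show Fintype.card K - (Fintype.card K - 1) = 1 by omega, Nat.dvd_one] at *
    exact (Fact.out : p.Prime).ne_one (by assumption)
  · obtain ⟨b, hb, c, hc', e⟩ := cover_of_factor hD φ h3 hs (X := X) (a := (n : K) ^ 2) (by rw [map_pow, hn])
      (pow_ne_zero _ n.ne_zero) (fun M hM hdet => by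
        have hlm : l ≠ l⁻¹ * n := fun h => hc.c1 (by
          have := congrArg Units.val (congrArg (fun t => l * t) h)
          simp only [mul_inv_cancel_left, Units.val_mul] at this
          rw [sq, this])
        obtain ⟨S, T, hST⟩ := exists_sl_two_diag hlm (Or.inr h2) (M := M)
          (by rw [hdet, ← Units.val_mul, mul_inv_cancel_left])
        exact ⟨_, _, good1_conj hD φ h3 hX hf S, good1_conj hD φ h3 hX hf T, hST⟩)
      g.2 (fun h => hg (Subtype.ext h))
    exact ⟨⟨b, hb⟩, ⟨c, hc'⟩, Subtype.ext (by simpa using e)⟩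

theorem exists_trace {q : ℕ} (hpow : ∀ t : K, φ t = t ^ q) (hq : 1 < q) (h3 : ∀ t, φ (φ (φ t)) = t) :
    ∃ τ : K, φ τ = τ ∧ τ ≠ 0 ∧ ∀ x : K, x * x - τ * x + (((-1 : Kˣ)) : K) ≠ 0 := by
  classical
  set S := Finset.univ.filter (fun t : K => φ t = t) with hS
  obtain ⟨τ, hτS, hτ⟩ : ∃ τ ∈ S, τ ∉ (S.erase 0).image (fun y => y - y⁻¹) := by
    by_contra h
    push Not at h
    have h0 : (0 : K) ∈ S := by simp [hS]
    have := (Finset.card_le_card h).trans Finset.card_image_le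
    exact absurd this (not_le.2 (Finset.card_erase_lt_of_mem h0))
  simp only [hS, Finset.mem_filter, Finset.mem_univ, true_and] at hτS
  refine ⟨τ, hτS, fun h => hτ (Finset.mem_image.2 ⟨1, by simp [hS], by rw [h, inv_one, sub_self]⟩), fun x hx => ?_⟩
  push_cast at hx
  have hx0 : x ≠ 0 := by rintro rfl; simp at hx
  have hroot : ∀ y : K, y * y - τ * y + -1 = 0 → φ y = y ∨ φ y = τ - y → y ≠ 0 →
      (φ y) * (φ y) - τ * φ y + -1 = 0 := fun y hy _ _ => by
    have := congrArg φ hy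
    simpa [hτS] using this
  have hy := congrArg φ hx
  simp only [map_add, map_sub, map_mul, hτS, map_neg, map_one, map_zero] at hy
  have hor : φ x = x ∨ φ x = τ - x := by
    rcases mul_eq_zero.1 (show (φ x - x) * (φ x - (τ - x)) = 0 by linear_combination hy - hx) with h | h
    · exact Or.inl (sub_eq_zero.1 h)
    · exact Or.inr (sub_eq_zero.1 h)
  have hfx : φ x = x := by
    rcases hor with h | h
    · exact h
    · have := h3 x
      rw [h, map_sub, hτS, h, sub_sub_cancel, h] at this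
      rw [h, this]
  refine hτ (Finset.mem_image.2 ⟨x, by simp [hS, hfx, hx0], ?_⟩)
  field_simp
  linear_combination hx

theorem compX_pow {q p : ℕ} [Fact p.Prime] [CharP K p] (hpow : ∀ t : K, φ t = t ^ q) {k : ℕ} (hpk : q = p ^ k)
    (hK : Fintype.card K = q ^ 3) (h2 : (2 : K) ≠ 0) (hodd : q % 2 = 1) {τ : K} (hτ : φ τ = τ)
    (hirr : ∀ x : K, x * x - τ * x + (((-1 : Kˣ)) : K) ≠ 0) :
    compX τ (-1 : Kˣ) ^ (q + 1) = dgl (-1) (-1) := by
  classical
  apply Units.ext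
  rw [Units.val_pow_eq_pow_val, show ((dgl (-1) (-1) : GL (Fin 2) K) : Matrix (Fin 2) (Fin 2) K) = -1 by
    ext i j; fin_cases i <;> fin_cases j <;> simp [dgl]]
  set X := ((compX τ (-1 : Kˣ) : GL (Fin 2) K) : Matrix (Fin 2) (Fin 2) K) with hXdef
  have hXX : X * X = τ • X + 1 := by
    rw [hXdef, compX_val]
    ext i j; fin_cases i <;> fin_cases j <;> simp [Matrix.mul_apply, Fin.sum_univ_two]
    ring
  set D := (2 : K) • X - τ • (1 : Matrix (Fin 2) (Fin 2) K) with hDdef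
  set Δ := τ * τ + 4 with hΔdef
  have hDD : D * D = Δ • (1 : Matrix (Fin 2) (Fin 2) K) := by
    rw [hDdef, hΔdef]
    simp only [sub_mul, mul_sub, Matrix.smul_mul, Matrix.mul_smul, Matrix.mul_one, Matrix.one_mul, hXX, smul_smul,
      smul_sub, smul_add]
    module
  obtain ⟨r, hr⟩ : ∃ r, q = 2 * r + 1 := ⟨q / 2, by omega⟩
  have hΔ : Δ ≠ 0 := fun h => hirr (τ / 2) (by
    push_cast
    rw [hΔdef] at h
    field_simp
    linear_combination -h)
  have hDq1 : D ^ q = Δ ^ r • D := by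
    rw [hr, pow_succ, pow_mul, sq, hDD, smul_pow, one_pow, Matrix.smul_mul, one_mul]
  have hDq2 : D ^ q = (2 : K) • X ^ q - τ • (1 : Matrix (Fin 2) (Fin 2) K) := by
    have hcomm : Commute ((2 : K) • X) (τ • (1 : Matrix (Fin 2) (Fin 2) K)) :=
      ((Commute.one_right X).smul_right τ).smul_left 2
    rw [hDdef, hpk, sub_pow_char_pow_of_commute _ _ hcomm, ← hpk, smul_pow, smul_pow, one_pow, ← hpow, ← hpow, hτ,
      map_ofNat]
  have hfix : Δ ^ q = Δ := by rw [← hpow, hΔdef, map_add, map_mul, hτ, map_ofNat]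
  have hε : Δ ^ r * Δ ^ r = 1 := by
    apply mul_right_cancel₀ hΔ
    rw [one_mul, ← pow_add, ← pow_succ, ← two_mul, ← hr, hfix]
  rcases mul_self_eq_one_iff.1 hε with h | h
  · exfalso
    have hsq : IsSquare Δ := by
      rw [FiniteField.isSquare_iff (fun hc => h2 (by
        haveI := ringChar.charP K
        rw [hc] at *
        exact CharP.cast_eq_zero K 2)) hΔ, hK,
        show q ^ 3 / 2 = r * (q ^ 2 + q + 1) by
          subst hr
          have : (2 * r + 1) ^ 3 = 2 * (r * ((2 * r + 1) ^ 2 + (2 * r + 1) + 1)) + 1 := by ring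
          omega, pow_mul, h, one_pow]
    obtain ⟨s, hs⟩ := hsq
    refine hirr ((τ + s) / 2) ?_
    push_cast
    field_simp
    rw [hΔdef] at hs
    linear_combination -hs
  · rw [hDq1, h] at hDq2
    have e : X ^ q = τ • (1 : Matrix (Fin 2) (Fin 2) K) - X := by
      have : (2 : K) • (X ^ q - (τ • (1 : Matrix (Fin 2) (Fin 2) K) - X)) = 0 := by
        rw [hDdef] at hDq2
        linear_combination (norm := module) -hDq2
      exact sub_eq_zero.1 ((smul_eq_zero.1 this).resolve_left h2)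
    rw [pow_succ, e, sub_mul, Matrix.smul_mul, one_mul, hXX]
    abel

theorem exists_odd {q : ℕ} (h3 : ∀ t, φ (φ (φ t)) = t) (hpow : ∀ t : K, φ t = t ^ q)
    (hK : Fintype.card K = q ^ 3) (hq1 : 1 < q) (hodd : q % 2 = 1) (hs : IsSimpleGroup ↥(CC).G0)
    (p : ℕ) [Fact p.Prime] [CharP K p] {k : ℕ} (hpk : q = p ^ k) :
    ∃ x : ↥(CC).G0, ¬ p ∣ orderOf x ∧ ∀ g : ↥(CC).G0, g ≠ 1 →
      ∃ u v : ↥(CC).G0, g = (u * x * u⁻¹) * (v * x * v⁻¹) := by
  have hpq : p ∣ q := by
    rcases k with _ | k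
    · simp at hpk; omega
    · rw [hpk]; exact dvd_pow_self p (Nat.succ_ne_zero k)
  have hp2 : p ≠ 2 := fun h => by rw [h] at hpq; omega
  have h2 : (2 : K) ≠ 0 := fun h => by
    have := (CharP.cast_eq_zero_iff K p 2).1 (by exact_mod_cast h)
    exact hp2 ((Nat.prime_dvd_prime_iff_eq Fact.out Nat.prime_two).1 this)
  have hKodd : Fintype.card K % 2 = 1 := by rw [hK, Nat.pow_mod, hodd]
  obtain ⟨τ, hτ, hτ0, hirr⟩ := exists_trace φ hpow hq1 h3
  set X := compX τ (-1 : Kˣ) with hXdef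
  have hd : gdet X = -1 := Units.ext (by rw [coe_gdet, (compX_tr_det τ (-1)).2])
  have hX : DFix φ X := by rw [DFix, hd]; simp
  have hpw := compX_pow φ hpow hpk hK h2 hodd hτ hirr
  rw [← hXdef] at hpw
  have hz : dgl (-1 : Kˣ) (-1) ^ 2 = 1 := by
    apply Units.ext
    rw [sq, Units.val_mul]
    ext i j; fin_cases i <;> fin_cases j <;> simp [dgl, Matrix.mul_apply, Fin.sum_univ_two]
  have himg : nTImage X = X * dgl (-1) (-1) := by rw [nTImage, hd, inv_neg_one]
  have hd' : gdet (nTImage X) = -1 := by rw [gdet_nTImage, hd, inv_neg_one]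
  have hf : Free hD φ X := by
    refine ⟨ell_free hD φ h3 h2 hd hpw, ell_free hD φ h3 h2 hd' (k := q + 1) ?_⟩
    rw [himg, (show Commute X (dgl (-1) (-1)) from (dgl_central _ X).symm).mul_pow, hpw,
      show q + 1 = 2 * ((q + 1) / 2) by omega, pow_mul (dgl (-1 : Kˣ) (-1)), hz, one_pow, mul_one]
  have hpr : (p : ℕ).Prime := Fact.out
  refine ⟨⟨psi hD φ X, psi_mem hD φ h3 hX⟩, fun hdvd => ?_, fun g hg => ?_⟩
  · have h1 : (⟨psi hD φ X, psi_mem hD φ h3 hX⟩ : ↥(CC).G0) ^ (2 * (q + 1)) = 1 := by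
      apply Subtype.ext
      show psi hD φ X ^ (2 * (q + 1)) = 1
      rw [← psi_pow hD φ h3 hX, mul_comm, pow_mul, hpw, hz, psi_one]
    rcases hpr.dvd_mul.1 (hdvd.trans (orderOf_dvd_of_pow_eq_one h1)) with h | h
    · exact hp2 ((Nat.prime_dvd_prime_iff_eq hpr Nat.prime_two).1 h)
    · exact hpr.ne_one (Nat.dvd_one.1 ((Nat.dvd_add_right hpq).1 h))
  · obtain ⟨b, hb, c, hc', e⟩ := cover_of_factor hD φ h3 hs (X := X) (a := 1) (map_one φ) one_ne_zero
      (fun M _ hdet => by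
        have good : ∀ N, Cls τ N → Good1 hD φ X N := by
          rintro N ⟨ht, hdN⟩
          have hgN : gdet N = -1 := Units.ext (by rw [coe_gdet, hdN]; simp)
          have hN : DFix φ N := by rw [DFix, hgN]; simp
          rcases ht with ht | ht
          · obtain ⟨S, hS⟩ := exists_sl_conj hKodd h2 hirr ht (by rw [hdN]; simp)
            rw [hS]; exact good1_conj hD φ h3 hX hf S
          · have e1 : ((nTImage N : GL (Fin 2) K) : Matrix (Fin 2) (Fin 2) K) =
                -(N : Matrix (Fin 2) (Fin 2) K) := by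
              rw [nTImage, hgN, inv_neg_one, Units.val_mul,
                show ((dgl (-1) (-1) : GL (Fin 2) K) : Matrix (Fin 2) (Fin 2) K) = -1 by
                  ext i j; fin_cases i <;> fin_cases j <;> simp [dgl], mul_neg, mul_one]
            obtain ⟨S, hS⟩ := exists_sl_conj hKodd h2 hirr (A := nTImage N)
              (by rw [e1, Matrix.trace_neg, ht, neg_neg]) (by rw [e1, Matrix.det_neg, hdN]; simp)
            exact good1_nT hD φ h3 hX hf hN hS
        obtain ⟨N₁, N₂, c1, c2, eM⟩ := exists_factor_odd hKodd h2 hτ0 M hdet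
        exact ⟨N₁, N₂, good _ c1, good _ c2, eM⟩)
      g.2 (fun h => hg (Subtype.ext h))
    exact ⟨⟨b, hb⟩, ⟨c, hc'⟩, Subtype.ext (by simpa using e)⟩

end Cfsg.Agent.D4Thompson
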