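/-
The smallest triality group: products of two conjugates of an element of order 21.

* `val`, `eq_of_run`: identities of words checked on bit planes;
* `mm`: the elements `z^k c^i` of the Levi subgroup T₇ × S₃ of the second parabolic;
* `cover_two`: the covering for q = 2.
-/
import Cfsg.Agent.EqLemmas
import Cfsg.Agent.Lib.D4Thompson.Cert
import Cfsg.Agent.Lib.D4Thompson.Cover
import Cfsg.Agent.Lib.RGD.Core
import Cfsg.Agent.Lib.RGD.Regular

set_option autoImplicit false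
set_option linter.unusedSectionVars false
set_option maxRecDepth 100000
set_option synthInstance.maxSize 20000
set_option synthInstance.maxHeartbeats 400000

namespace Cfsg.Agent.D4Thompson.Two

open Cfsg.Lie Cfsg.Lie.ChevalleyDatum Cfsg.Agent.Chev Cfsg.Agent.TwistE6D4 Cfsg.Agent.TwistE6D4.D4 Matrix
open G2Thompson (exists_conj_translate)

/-! ### Checks -/

/-- Parity of the number of long reflections in a word. -/
def Odd0 (w : List (Fin 2)) : Prop := w.count 0 % 2 = 1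

instance (w : List (Fin 2)) : Decidable (Odd0 w) := by unfold Odd0; infer_instance

/-- The long word. -/
def wL0 : List (Fin 2) := [0, 1, 0, 1, 0, 1]

theorem chk_shift : ∀ w ∈ D4.words, Odd0 w → ∀ k < 7,
    run (.d (4 * k % 7) :: (wordL w ++ [.d (3 * k % 7)])) = run (.d k :: wordL w) := by decide +kernel

theorem chk_levi : (∀ k < 7, run (orbL 14 1 ++ [.d k]) = run (.d k :: orbL 14 1) ∧
      run (orbL 9 1 ++ [.d k]) = run (.d k :: orbL 9 1) ∧
      run (wordL wL0 ++ [.d k]) = run (.d ((7 - k) % 7) :: wordL wL0)) ∧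
    run (wordL wL0 ++ orbL 14 1) = run (orbL 9 1 ++ wordL wL0) ∧
    run (wordL wL0 ++ orbL 9 1) = run (orbL 14 1 ++ wordL wL0) ∧
    run (cL 3) = run [] ∧ run (orbL 14 1 ++ cL 1) = run (cL 2 ++ orbL 14 1) ∧
    run (orbL 14 1 ++ orbL 14 1) = run [] ∧ run (wordL [1] ++ wordL [1]) = run [] ∧
    run (wordL [0] ++ wordL [0]) = run [] ∧
    run (orbL 9 1) = run (wordL [1] ++ orbL 14 1 ++ wordL [1]) := by decide +kernel

theorem chk_move : ∀ a < 2, ∀ b < 2, (a, b) ≠ (0, 0) → ∀ i ∈ [1, 2], ∃ a' < 2, ∃ b' < 2, (a', b') ≠ (a, b) ∧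
    run (cL i ++ (orbL 22 a ++ orbL 23 b)) = run (orbL 22 a' ++ (orbL 23 b' ++ cL i)) := by decide +kernel

theorem chk_find : ∀ w ∈ D4.words, w ≠ [] → w ≠ [1] → ∀ s < 2, ∀ k ∈ [0, 1, 3], (Odd0 w → k = 0) →
    ∃ c ∈ certs, c.1 = w ∧ c.2.1 = k ∧ c.2.2.1 = s := by decide +kernel

theorem len_tab : ∀ r ∈ d4Twist.reps, r < 24 ∧ d4Twist.len r ∣ 3 ∧ ∀ i < d4Twist.len r,
    d4Twist.rho^[i] r < 24 ∧ esgn d4Twist r i % 2 = 1 := by decide +kernel

theorem expo_tab : ∀ s < 24, expo (4 + s) =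
    ((chevD4.cartan 0 s + 2 * chevD4.cartan 2 s + 4 * chevD4.cartan 3 s) % 7).toNat := by decide +kernel

theorem sqc_lt : ∀ t < 8, sqc t < 8 := by decide

/-- A letter in range. -/
def LOK : Letter → Prop
  | .x r t => r < 24 ∧ t < 8
  | .d _ => True

variable {K : Type*} [Field K] (hD : Good chevD4) (φ : K →+* K)

local notation "CC" => ctxD4 hD φ
local notation "o" => orb hD d4Twist φ

/-- The value of a letter. -/
def val (α : Kˣ) : Letter → GL chevD4.Idx K
  | .x r t => gx hD K r (enc (α : K) t)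
  | .d k => torG φ (α ^ k) 1

/-- The value of a word. -/
def ev' (α : Kˣ) (L : List Letter) : GL chevD4.Idx K := (L.map (val hD φ α)).prod

theorem ev'_append (α : Kˣ) (L L' : List Letter) : ev' hD φ α (L ++ L') = ev' hD φ α L * ev' hD φ α L' := by
  simp [ev']

theorem ev'_cons (α : Kˣ) (a : Letter) (L : List Letter) : ev' hD φ α (a :: L) = val hD φ α a * ev' hD φ α L := by
  simp [ev']

theorem ev'_nil (α : Kˣ) : ev' hD φ α [] = 1 := rfl

/-- The hypotheses. -/
structure Setting (α : Kˣ) : Prop where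
  h2 : (2 : K) = 0
  pow : ∀ t : K, φ t = t ^ 2
  h3 : ∀ t : K, φ (φ (φ t)) = t
  root : (α : K) ^ 3 = α + 1
  seven : ∀ t : K, t ≠ 0 → t ^ 7 = 1

section Facts

variable {hD φ} {α : Kˣ} (S : Setting φ α)
include S

theorem charTwo : CharP K 2 := by
  haveI := ringChar.charP K
  have h := (CharP.cast_eq_zero_iff K (ringChar K) 2).1 (by exact_mod_cast S.h2)
  rcases (Nat.dvd_prime Nat.prime_two).1 h with e | e
  · exact absurd e (CharP.ringChar_ne_one)
  · exact ringChar.of_eq e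

theorem fix01 {t : K} (h : φ t = t) : t = 0 ∨ t = 1 := by
  rw [S.pow, sq] at h
  rcases eq_or_ne t 0 with h0 | h0
  · exact Or.inl h0
  · exact Or.inr ((mul_eq_right₀ h0).1 h)

theorem unit_seven (l : Kˣ) : l ^ 7 = 1 := Units.ext (by simp [S.seven _ l.ne_zero])

theorem pow_mod7 (l : Kˣ) (n : ℕ) : l ^ (n % 7) = l ^ n := (pow_eq_pow_mod n (unit_seven S l)).symm

theorem alpha_ne_one : α ≠ 1 := by
  intro h
  have := S.root
  rw [h, Units.val_one, one_pow] at this
  exact one_ne_zero (show (1 : K) = 0 by linear_combination -this)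

theorem order_alpha : orderOf α = 7 := by
  haveI : Fact (Nat.Prime 7) := ⟨by norm_num⟩
  exact orderOf_eq_prime (unit_seven S α) (alpha_ne_one S)

theorem exists_exponent [Fintype K] (hK : Fintype.card K = 8) (l : Kˣ) : ∃ k < 7, l = α ^ k := by
  classical
  have hinj : Set.InjOn (fun k => α ^ k) (Finset.range 7 : Set ℕ) := fun a ha b hb e => by
    simp only [Finset.coe_range, Set.mem_Iio] at ha hb
    exact pow_injOn_Iio_orderOf (by rw [order_alpha S]; exact ha) (by rw [order_alpha S]; exact hb) e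
  have h : (Finset.range 7).image (fun k => α ^ k) = Finset.univ := by
    apply Finset.eq_univ_of_card
    rw [Finset.card_image_of_injOn hinj, Finset.card_range, Fintype.card_units, hK]
  have hl : l ∈ (Finset.range 7).image (fun k => α ^ k) := h ▸ Finset.mem_univ l
  obtain ⟨k, hk, e⟩ := Finset.mem_image.1 hl
  exact ⟨k, Finset.mem_range.1 hk, e.symm⟩

theorem enc_fix {t : ℕ} (ht : t < 2) : φ (enc (α : K) t) = enc (α : K) t := by
  haveI := charTwo S
  interval_cases t <;> simp [enc_zero, enc_one]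

theorem enc_iter {t : ℕ} (ht : t < 8) : ∀ i, sqc^[i] t < 8 ∧ (⇑φ)^[i] (enc (α : K) t) = enc (α : K) (sqc^[i] t)
  | 0 => ⟨ht, rfl⟩
  | i + 1 => by
    haveI := charTwo S
    obtain ⟨h1, h2⟩ := enc_iter ht i
    rw [Function.iterate_succ_apply', Function.iterate_succ_apply', h2, S.pow, enc_sqc S.root h1]
    exact ⟨sqc_lt _ h1, rfl⟩

theorem chi_tor_pow (l : Kˣ) (hl : l ^ 7 = 1) (s : ℕ) (hs : s < 24) :
    (chiX (tor φ l 1) s : K) = (l : K) ^ expo (4 + s) := by
  have h7 : (l : K) ^ (7 : ℤ) = 1 := by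
    have := congrArg Units.val hl
    simpa [zpow_ofNat] using this
  rw [chi_tor l 1 rfl, Units.val_one, _root_.one_zpow, mul_one]
  simp only [List.range_succ, List.range_zero, List.nil_append, List.map_append, List.map_cons, List.map_nil,
    List.getD_eq_getElem?_getD, List.cons_append, List.getElem?_cons_zero, List.getElem?_cons_succ, Option.getD_some]
  rw [S.pow, S.pow, ← pow_mul, ← zpow_natCast (l : K) 2, ← zpow_natCast (l : K) (2 * 2), ← _root_.zpow_mul,
    ← _root_.zpow_mul, ← zpow_add₀ l.ne_zero, ← zpow_add₀ l.ne_zero, ← zpow_natCast, expo_tab s hs]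
  set e := chevD4.cartan 0 s + 2 * chevD4.cartan 2 s + 4 * chevD4.cartan 3 s with he
  have e2 : chevD4.cartan 0 s + ((2 : ℕ) : ℤ) * chevD4.cartan 2 s + ((2 * 2 : ℕ) : ℤ) * chevD4.cartan 3 s = e := by
    push_cast; rw [he]
  rw [e2, Int.toNat_of_nonneg (Int.emod_nonneg _ (by norm_num))]
  conv_lhs => rw [← Int.emod_add_mul_ediv e 7, zpow_add₀ l.ne_zero, _root_.zpow_mul, h7, _root_.one_zpow, mul_one]

theorem dec_run : ∀ {L : List Letter}, (∀ a ∈ L, LOK a) →
    dec (α : K) (run L) = (ev' hD φ α L : GL chevD4.Idx K).1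
  | [], _ => by haveI := charTwo S; exact dec_oneM _
  | a :: L, h => by
    haveI := charTwo S
    have ih := dec_run (L := L) fun x hx => h x (List.mem_cons_of_mem _ hx)
    rw [ev'_cons, Units.val_mul, ← ih, run, List.foldr_cons, ← run]
    cases a with
    | x r t =>
      obtain ⟨hr, ht⟩ := h (.x r t) (by simp)
      rw [val, coe_gx hD r (lt24 hr), Letter.step, dec_stepX _ S.root hr (enc_sqc S.root ht)]
    | d k =>
      rw [Letter.step, dec_stepD _ S.root, val, torG, coe_theta, ChevBN.dg]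
      congr 1
      congr 1
      funext a
      rcases a with i | s
      · have hi : i.val < 4 := i.isLt.trans_le (by decide +kernel)
        simp [pos, expo, hi]
      · have hs : s.val < 24 := s.isLt.trans_le (by decide +kernel)
        show (α : K) ^ (expo (4 + s.val) * k % 7) = (chiX (tor φ (α ^ k) 1) s.val : K)
        rw [chi_tor_pow S _ (unit_seven S _) _ hs, Units.val_pow_eq_pow_val, ← pow_mul, mul_comm k,
          ← Units.val_pow_eq_pow_val, ← Units.val_pow_eq_pow_val, pow_mod7 S]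

theorem eq_of_run {L L' : List Letter} (h : run L = run L') (h1 : ∀ a ∈ L, LOK a) (h2 : ∀ a ∈ L', LOK a) :
    ev' hD φ α L = ev' hD φ α L' :=
  Units.ext (by rw [← dec_run (hD := hD) S h1, ← dec_run (hD := hD) S h2, h])

theorem lok_orbL {r t : ℕ} (hr : r ∈ d4Twist.reps) (ht : t < 8) : ∀ a ∈ orbL r t, LOK a := fun a ha => by
  obtain ⟨i, hi, rfl⟩ := List.mem_map.1 ha
  exact ⟨((len_tab r hr).2.2 i (List.mem_range.1 hi)).1, (enc_iter S ht i).1⟩

theorem ev_orbL {r t : ℕ} (hr : r ∈ d4Twist.reps) (ht : t < 8) :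
    ev' hD φ α (orbL r t) = o r (enc (α : K) t) := by
  haveI := charTwo S
  rw [ev', orbL, List.map_map, orb]
  refine congrArg List.prod (List.map_congr_left fun i hi => ?_)
  obtain ⟨-, -, h⟩ := len_tab r hr
  obtain ⟨-, he⟩ := h i (List.mem_range.1 hi)
  obtain ⟨z, hz⟩ : ∃ z, esgn d4Twist r i = 2 * z + 1 := ⟨esgn d4Twist r i / 2, by omega⟩
  show gx hD K _ _ = gx hD K _ _
  rw [cf, hz, (enc_iter S ht i).2]
  simp [S.h2]

theorem lok_word (w : List (Fin 2)) : ∀ a ∈ wordL w, LOK a := fun a ha => by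
  obtain ⟨n, -, h⟩ := List.mem_flatMap.1 ha
  unfold nodeL at h
  split at h <;> simp only [List.mem_append] at h <;> rcases h with (h | h) | h <;>
    exact lok_orbL S (by decide) (by norm_num) a h

theorem ev_word : ∀ w : List (Fin 2), ev' hD φ α (wordL w) = (CC).rgd.nw w
  | [] => rfl
  | a :: w => by
    haveI := charTwo S
    rw [wordL, List.flatMap_cons, ev'_append, ← wordL, ev_word w, (CC).rgd.nw_cons]
    congr 1
    have e : (CC).rgd.n a = o (chevD4.simple (d4Node a).val) 1 * o (chevD4.neg (chevD4.simple (d4Node a).val)) (-1) *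
        o (chevD4.simple (d4Node a).val) 1 := by
      show (CC).ns a 1 = _
      rw [(CC).ns_eq, (CC).op_eq, (CC).om_eq, inv_one]
    have hneg : (-1 : K) = 1 := CharTwo.neg_eq 1
    have k0 : chevD4.simple (d4Node 0).val = 18 ∧ chevD4.neg 18 = 5 ∧ chevD4.simple (d4Node 1).val = 14 ∧
        chevD4.neg 14 = 9 := by decide +kernel
    obtain ⟨a0, b0, a1, b1⟩ := k0
    rw [e, hneg]
    fin_cases a
    · show ev' hD φ α (orbL 18 1 ++ orbL 5 1 ++ orbL 18 1) = _
      simp only [Fin.zero_eta, Fin.isValue, a0, b0]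
      rw [ev'_append, ev'_append, ev_orbL S (by decide) (by norm_num), ev_orbL S (by decide) (by norm_num), enc_one]
    · show ev' hD φ α (orbL 14 1 ++ orbL 9 1 ++ orbL 14 1) = _
      simp only [Fin.mk_one, Fin.isValue, a1, b1]
      rw [ev'_append, ev'_append, ev_orbL S (by decide) (by norm_num), ev_orbL S (by decide) (by norm_num), enc_one]

end Facts

/-! ### The elements of the Levi subgroup -/

/-- The involution of the short root. -/
def sI : GL chevD4.Idx K := o 14 1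

/-- The element of order three. -/
def cE : GL chevD4.Idx K := o 14 1 * o 9 1

/-- The elements used. -/
def mm (α : Kˣ) (k i : ℕ) : GL chevD4.Idx K := torG φ (α ^ k) 1 * cE hD φ ^ i

/-- The radical of the second parabolic. -/
def UQ : Subgroup (GL chevD4.Idx K) := (CC).rgd.Udel (1 : Fin 2)

/-- The long representative. -/
def nL : GL chevD4.Idx K := (CC).rgd.nw wL0

/-- The opposite radical. -/
def UQm : Subgroup (GL chevD4.Idx K) := (UQ hD φ).comap (MulAut.conj (nL hD φ)).toMonoidHom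

variable {hD φ} {α : Kˣ} (S : Setting φ α)
include S

theorem orb1_U (r : ℕ) (hr : r ∈ d4Twist.reps) {t : K} (h : d4Twist.len r = 3 ∨ φ t = t) :
    o r t ∈ (CC).rgd.U (⟨r, hr⟩ : {r // r ∈ d4Twist.reps}) :=
  (CC).orb_mem_Uo hr (by
    show (⇑φ)^[d4Twist.len r] t = t
    obtain ⟨-, hd, -⟩ := len_tab r hr
    rcases (Nat.dvd_prime Nat.prime_three).1 hd with e | e
    · rw [e]
      rcases h with h | h
      · omega
      · exact h
    · rw [e]; exact S.h3 t)

theorem orb_G0 (r : ℕ) (hr : r ∈ d4Twist.reps) {t : K} (h : d4Twist.len r = 3 ∨ φ t = t) : o r t ∈ (CC).G0 :=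
  (CC).Uo_le_G0 d4_long ⟨r, hr⟩ (orb1_U S r hr h)

theorem sI_G0 : sI hD φ ∈ (CC).G0 := orb_G0 S 14 (by decide) (Or.inr (map_one φ))

theorem nL_G0 : nL hD φ ∈ (CC).G0 := by
  rw [← (CC).rgd_G]; exact (CC).rgd.N_le_G ((CC).rgd.nw_mem_N _)

theorem cE_G0 : cE hD φ ∈ (CC).G0 :=
  mul_mem (orb_G0 S 14 (by decide) (Or.inr (map_one φ))) (orb_G0 S 9 (by decide) (Or.inr (map_one φ)))

theorem mm_G0 (k i : ℕ) : mm hD φ α k i ∈ (CC).G0 :=
  mul_mem ((CC).H0_le_G0 (torG_mem_H hD φ S.h3 _ (by simp))) (pow_mem (cE_G0 S) i)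

theorem lok_c : ∀ a ∈ orbL 14 1 ++ orbL 9 1, LOK a := fun a ha => by
  rcases List.mem_append.1 ha with h | h <;> exact lok_orbL S (by decide) (by norm_num) a h

theorem lok_cL (i : ℕ) : ∀ a ∈ cL i, LOK a := fun a ha => by
  obtain ⟨j, -, h⟩ := List.mem_flatMap.1 ha
  exact lok_c S a h

theorem ev_cL : ∀ i, ev' hD φ α (cL i) = cE hD φ ^ i
  | 0 => rfl
  | i + 1 => by
    haveI := charTwo S
    rw [cL, List.range_succ, List.flatMap_append, ev'_append, ← cL, ev_cL i, pow_succ, List.flatMap_cons,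
      List.flatMap_nil, List.append_nil, ev'_append, ev_orbL S (by decide) (by norm_num),
      ev_orbL S (by decide) (by norm_num), enc_one]
    rfl

theorem ev14 : ev' hD φ α (orbL 14 1) = sI hD φ := by
  haveI := charTwo S
  rw [ev_orbL S (by decide) (by norm_num), enc_one]; rfl

theorem ev9 : ev' hD φ α (orbL 9 1) = o 9 (1 : K) := by
  haveI := charTwo S
  rw [ev_orbL S (by decide) (by norm_num), enc_one]

theorem levi_facts : (∀ k, Commute (torG φ (α ^ k) 1) (sI hD φ) ∧ Commute (torG φ (α ^ k) 1) (cE hD φ) ∧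
      nL hD φ * torG φ (α ^ k) 1 = torG φ (α ^ (6 * k)) 1 * nL hD φ) ∧
    cE hD φ ^ 3 = 1 ∧ sI hD φ * cE hD φ = cE hD φ ^ 2 * sI hD φ ∧ sI hD φ * sI hD φ = 1 ∧
    nL hD φ * cE hD φ = cE hD φ ^ 2 * nL hD φ ∧ (CC).rgd.n 1 * (CC).rgd.n 1 = 1 ∧
    (CC).rgd.n 0 * (CC).rgd.n 0 = 1 ∧ o 9 (1 : K) = (CC).rgd.n 1 * sI hD φ * (CC).rgd.n 1 := by
  obtain ⟨h1, h2, h3, h4, h5, h6, h7, h8, h9⟩ := chk_levi
  have l14 : ∀ a ∈ orbL 14 1, LOK a := lok_orbL S (by decide) (by norm_num)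
  have l9 : ∀ a ∈ orbL 9 1, LOK a := lok_orbL S (by decide) (by norm_num)
  have ld : ∀ k, ∀ a ∈ [Letter.d k], LOK a := fun k a ha => by simp at ha; subst ha; trivial
  have lw := lok_word (φ := φ) S
  have happ : ∀ {L L' : List Letter}, (∀ a ∈ L, LOK a) → (∀ a ∈ L', LOK a) → ∀ a ∈ L ++ L', LOK a :=
    fun h h' a ha => (List.mem_append.1 ha).elim (h a) (h' a)
  have hcons : ∀ {k : ℕ} {L : List Letter}, (∀ a ∈ L, LOK a) → ∀ a ∈ Letter.d k :: L, LOK a :=
    fun h a ha => (List.mem_cons.1 ha).elim (fun e => e ▸ trivial) (h a)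
  have hv : ∀ k, val hD φ α (.d k) = torG φ (α ^ k) 1 := fun k => rfl
  have hd1 : ∀ k, ev' hD φ α [Letter.d k] = torG φ (α ^ k) 1 := fun k => by simp [ev', hv]
  have e1 := eq_of_run (hD := hD) S h2 (happ (lw _) l14) (happ l9 (lw _))
  have e2 := eq_of_run (hD := hD) S h3 (happ (lw _) l9) (happ l14 (lw _))
  have e3 := eq_of_run (hD := hD) S h4 (lok_cL S 3) (by simp)
  have e4 := eq_of_run (hD := hD) S h5 (happ l14 (lok_cL S 1)) (happ (lok_cL S 2) l14)
  have e5 := eq_of_run (hD := hD) S h6 (happ l14 l14) (by simp)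
  have e6 := eq_of_run (hD := hD) S h7 (happ (lw _) (lw _)) (by simp)
  have e7 := eq_of_run (hD := hD) S h8 (happ (lw _) (lw _)) (by simp)
  have e8 := eq_of_run (hD := hD) S h9 l9 (happ (happ (lw _) l14) (lw _))
  simp only [ev'_append, ev_word S, ev14 S, ev9 S, ev_cL S, ev'_nil, pow_one] at e1 e2 e3 e4 e5 e6 e7 e8
  simp only [RGD.RootData.nw_cons, RGD.RootData.nw_nil, mul_one] at e6 e7 e8
  change nL hD φ * sI hD φ = o 9 (1 : K) * nL hD φ at e1
  change nL hD φ * _ = _ * nL hD φ at e2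
  refine ⟨fun k => ?_, e3, e4, e5, ?_, e6, e7, e8⟩
  · obtain ⟨a1, a2, a3⟩ := h1 (k % 7) (Nat.mod_lt _ (by norm_num))
    have b1 := eq_of_run (hD := hD) S a1 (happ l14 (ld _)) (hcons l14)
    have b2 := eq_of_run (hD := hD) S a2 (happ l9 (ld _)) (hcons l9)
    have b3 := eq_of_run (hD := hD) S a3 (happ (lw _) (ld _)) (hcons (lw _))
    simp only [ev'_append, ev'_cons, hd1, hv, ev_word S, ev14 S, ev9 S] at b1 b2 b3
    rw [pow_mod7 S] at b1 b2
    rw [pow_mod7 S, pow_mod7 S] at b3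
    have e : α ^ (7 - k % 7) = α ^ (6 * k) := by
      rw [← pow_mod7 S α (7 - k % 7), ← pow_mod7 S α (6 * k)]; congr 1; omega
    rw [e] at b3
    exact ⟨b1.symm, (Commute.mul_right (show Commute _ (o 14 (1 : K)) from b1.symm) b2.symm), b3⟩
  · calc nL hD φ * cE hD φ = nL hD φ * sI hD φ * o 9 (1 : K) := by rw [cE, sI]; group
      _ = o 9 (1 : K) * (nL hD φ * o 9 (1 : K)) := by rw [e1]; group
      _ = o 9 (1 : K) * sI hD φ * nL hD φ := by rw [e2]; group
      _ = cE hD φ ^ 2 * nL hD φ := by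
        congr 1
        calc o 9 (1 : K) * sI hD φ = (sI hD φ * sI hD φ) * (o 9 (1 : K) * sI hD φ) := by rw [e5, one_mul]
          _ = sI hD φ * cE hD φ * sI hD φ := by rw [cE, ← sI]; group
          _ = _ := by rw [e4, mul_assoc, e5, mul_one]

theorem mm_mul (k l i j : ℕ) : mm hD φ α k i * mm hD φ α l j = mm hD φ α (k + l) (i + j) := by
  obtain ⟨h1, -⟩ := levi_facts (hD := hD) S
  have h := ((h1 l).2.1.pow_right i).eq
  rw [mm, mm, mm, show ∀ a b c d : GL chevD4.Idx K, a * b * (c * d) = a * (b * c) * d from fun a b c d => by group,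
    ← h, pow_add α, pow_add]
  rw [show torG φ (α ^ k * α ^ l) 1 = torG φ (α ^ k) 1 * torG φ (α ^ l) 1 by rw [torG_mul, one_mul]]
  group

theorem mm_congr {k l i j : ℕ} (hk : k % 7 = l % 7) (hi : i % 3 = j % 3) : mm hD φ α k i = mm hD φ α l j := by
  obtain ⟨-, c3, -⟩ := levi_facts (hD := hD) S
  rw [mm, mm, ← pow_mod7 S α k, hk, pow_mod7 S, pow_eq_pow_mod i c3, hi, ← pow_eq_pow_mod j c3]

theorem mm_zero : mm hD φ α 0 0 = 1 := by rw [mm, pow_zero, pow_zero, torG_one, one_mul]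

theorem mm_pow (k i n : ℕ) : mm hD φ α k i ^ n = mm hD φ α (k * n) (i * n) := by
  induction n with
  | zero => rw [pow_zero, Nat.mul_zero, Nat.mul_zero, mm_zero S]
  | succ n ih => rw [pow_succ, ih, mm_mul S, Nat.mul_succ, Nat.mul_succ]

theorem conj_facts (k i : ℕ) : sI hD φ * mm hD φ α k i * (sI hD φ)⁻¹ = mm hD φ α k (2 * i) ∧
    nL hD φ * mm hD φ α k i * (nL hD φ)⁻¹ = mm hD φ α (6 * k) (2 * i) := by
  obtain ⟨h1, -, hs, -, hn, -⟩ := levi_facts (hD := hD) S
  constructor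
  · rw [mm, mm, mul_inv_eq_iff_eq_mul, ← mul_assoc, ← (h1 k).1.eq, pow_mul, mul_assoc, mul_assoc]
    congr 1
    exact (SemiconjBy.pow_right (show SemiconjBy (sI hD φ) (cE hD φ) (cE hD φ ^ 2) from hs) i).eq
  · rw [mm, mm, mul_inv_eq_iff_eq_mul, ← mul_assoc, (h1 k).2.2, pow_mul, mul_assoc, mul_assoc]
    congr 1
    exact (SemiconjBy.pow_right (show SemiconjBy (nL hD φ) (cE hD φ) (cE hD φ ^ 2) from hn) i).eq.trans
      (by rw [pow_mul])

omit S in
theorem mem_normalizer_of {G : Type*} [Group G] {H : Subgroup G} {g : G} (h : ∀ u ∈ H, g * u * g⁻¹ ∈ H)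
    (h' : ∀ u ∈ H, g⁻¹ * u * g ∈ H) : g ∈ Subgroup.normalizer (H : Set G) := by
  rw [Subgroup.mem_normalizer_iff]
  intro u
  refine ⟨h u, fun hu => ?_⟩
  have := h' _ hu
  rwa [show g⁻¹ * (g * u * g⁻¹) * g = u by group] at this

theorem mm_norm_UQ (k i : ℕ) : mm hD φ α k i ∈ Subgroup.normalizer (UQ hD φ : Set (GL chevD4.Idx K)) := by
  obtain ⟨-, -, -, hs2, -, hn2, -, h9⟩ := levi_facts (hD := hD) S
  have hH : torG φ (α ^ k) 1 ∈ (CC).rgd.H := torG_mem_H hD φ S.h3 _ (by simp)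
  have h14 : sI hD φ ∈ (CC).rgd.U ((CC).rgd.simple (1 : Fin 2)) := by
    show _ ∈ (CC).Uo (chevD4.simple (d4Node 1).val)
    rw [show chevD4.simple (d4Node 1).val = 14 by decide +kernel]
    exact orb1_U S 14 (by decide) (Or.inr (map_one φ))
  have hsN : sI hD φ ∈ Subgroup.normalizer (UQ hD φ : Set (GL chevD4.Idx K)) := by
    refine mem_normalizer_of ((CC).rgd.U_conj_Udel _ h14) fun u hu => ?_
    have := (CC).rgd.U_conj_Udel _ (inv_mem h14) u hu
    rwa [inv_inv] at this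
  have hnN : (CC).rgd.n 1 ∈ Subgroup.normalizer (UQ hD φ : Set (GL chevD4.Idx K)) :=
    mem_normalizer_of ((CC).rgd.n_conj_Udel 1) fun u hu => (CC).rgd.Udel_conj_n' 1 hu
  have hcN : cE hD φ ∈ Subgroup.normalizer (UQ hD φ : Set (GL chevD4.Idx K)) :=
    mul_mem hsN (by rw [h9]; exact mul_mem (mul_mem hnN hsN) hnN)
  refine mul_mem ?_ (pow_mem hcN i)
  refine mem_normalizer_of ((CC).rgd.H_conj_span _ hH) fun u hu => ?_
  have := (CC).rgd.H_conj_span _ (inv_mem hH) u hu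
  rwa [inv_inv] at this

omit S in
theorem mem_UQm {g : GL chevD4.Idx K} : g ∈ UQm hD φ ↔ nL hD φ * g * (nL hD φ)⁻¹ ∈ UQ hD φ := Iff.rfl

theorem mm_norm_UQm (k i : ℕ) {u : GL chevD4.Idx K} :
    (u ∈ UQm hD φ → mm hD φ α k i * u * (mm hD φ α k i)⁻¹ ∈ UQm hD φ) ∧
      (u ∈ UQm hD φ → (mm hD φ α k i)⁻¹ * u * mm hD φ α k i ∈ UQm hD φ) := by
  have hm := mm_norm_UQ (hD := hD) S (6 * k) (2 * i)
  rw [← (conj_facts S k i).2, Subgroup.mem_normalizer_iff] at hm
  constructor <;> intro hu <;> rw [mem_UQm] at hu ⊢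
  · have := (hm _).1 hu
    convert this using 1
    group
  · refine (hm _).2 ?_
    convert hu using 1
    group

theorem udel14 {y : K} (hy : φ y = y) (h : o 14 y ∈ UQ hD φ) : y = 0 := by
  have h1 : o 14 y ∈ (CC).rgd.U ((CC).rgd.simple (1 : Fin 2)) := by
    show _ ∈ (CC).Uo (chevD4.simple (d4Node 1).val)
    rw [show chevD4.simple (d4Node 1).val = 14 by decide +kernel]
    exact orb1_U S 14 (by decide) (Or.inr hy)
  have h2 := (CC).rgd.n_conj_U (1 : Fin 2) _ _ h1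
  rw [(CC).rgd.w_simple] at h2
  have h4 : (CC).rgd.n 1 * o 14 y * ((CC).rgd.n 1)⁻¹ = 1 := by
    rw [← Subgroup.mem_bot, ← (CC).rgd.B_inf_V]
    exact ⟨(CC).rgd.Udel_le_B _ ((CC).rgd.n_conj_Udel _ _ h),
      (CC).rgd.U_le_Vneg (fun hp => ((CC).rgd.pos_neg _).1 hp ((CC).rgd.pos_simple _)) h2⟩
  exact (CC).orb_inj (show 14 ∈ d4Twist.reps by decide) ((conj_eq_one_iff.1 h4).trans ((CC).orb_zero 14).symm)

omit S in
theorem orb_UQ {r : ℕ} (hr : r ∈ upR) {t : K}
    (h : o r t ∈ (CC).rgd.U (⟨r, (show ∀ r ∈ upR, r ∈ d4Twist.reps by decide) r hr⟩ : {r // r ∈ d4Twist.reps})) :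
    o r t ∈ UQ hD φ := by
  have key : ∀ r ∈ upR, 0 < d4Twist.ht r ∧ r ≠ chevD4.simple (d4Node 1).val := by decide +kernel
  exact (CC).rgd.U_le_span (A := {s | (CC).rgd.pos s ∧ s ≠ (CC).rgd.simple (1 : Fin 2)})
    (r := (⟨r, (show ∀ r ∈ upR, r ∈ d4Twist.reps by decide) r hr⟩ : {r // r ∈ d4Twist.reps}))
    ⟨(key r hr).1, fun e => (key r hr).2 (congrArg Subtype.val e)⟩ h

/-- Fixed point freeness on the radical. -/
theorem upFree {k i : ℕ} (hk : k % 7 ≠ 0) (hi : i % 3 ≠ 0) {u : GL chevD4.Idx K} (hu : u ∈ UQ hD φ)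
    (hc : mm hD φ α k i * u = u * mm hD φ α k i) : u = 1 := by
  have c3 := Commute.pow_left hc 3
  have c7 := Commute.pow_left hc 7
  rw [mm_pow S, mm_congr S (l := k * 3) (j := 0) rfl (by omega)] at c3
  rw [mm_pow S, mm_congr S (l := 0) (j := i) (by omega) (by omega)] at c7
  simp only [mm, pow_zero, mul_one, one_mul, torG_one] at c3 c7
  set l := α ^ (k * 3) with hl
  have hl1 : ∀ n, 0 < n → n < 7 → (l : K) ^ n ≠ 1 := fun n hn hn' e => by
    have e' : α ^ (k * 3 * n) = 1 := by rw [pow_mul, ← hl]; exact Units.ext (by simpa using e)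
    have := orderOf_dvd_of_pow_eq_one e'
    rw [order_alpha S] at this
    rcases (Nat.Prime.dvd_mul (by norm_num)).1 this with h | h
    · rcases (Nat.Prime.dvd_mul (by norm_num)).1 h with h | h <;> omega
    · omega
  obtain ⟨x, y, z, w, v, e, -, hy, -, -, hv, he, rfl⟩ := normal hD φ ((CC).rgd.Udel_le_Upos _ hu)
  obtain ⟨hx, -, hz, hw, -, -⟩ := six_scale hD φ S.h3 l 1 (by simp) c3.eq
  have key : ∀ {c t : K}, c ≠ 1 → c * t = t → t = 0 := fun {c t} hc h => by
    by_contra ht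
    exact hc ((mul_eq_right₀ ht).1 h)
  rw [Units.val_one] at hx
  rw [Units.val_one, S.pow, S.pow, one_mul] at hz
  rw [S.pow, S.pow] at hw
  have hl0 : (l : K) ≠ 0 := l.ne_zero
  obtain rfl : x = 0 := key (c := (l : K) ^ 2) (hl1 2 (by norm_num) (by norm_num)) (by simpa using hx)
  obtain rfl : z = 0 := key (c := (l : K) ^ 1) (hl1 1 (by norm_num) (by norm_num))
    (by rwa [show ((l : K) ^ 2) ^ 2 / ((l : K) * (l : K) ^ 2) = (l : K) ^ 1 by field_simp] at hz)
  obtain rfl : w = 0 := key (c := (l : K) ^ 5) (hl1 5 (by norm_num) (by norm_num))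
    (by rwa [show (l : K) ^ 2 * ((l : K) ^ 2) ^ 2 / (l : K) = (l : K) ^ 5 by field_simp] at hw)
  simp only [(CC).orb_zero, mul_one, one_mul] at hu c7 ⊢
  obtain rfl : y = 0 := udel14 S hy (by
    have h22 : o 22 v ∈ UQ hD φ := orb_UQ (by decide) (orb1_U S 22 (by decide) (Or.inr hv))
    have h23 : o 23 e ∈ UQ hD φ := orb_UQ (by decide) (orb1_U S 23 (by decide) (Or.inr he))
    have := mul_mem (mul_mem hu (inv_mem h23)) (inv_mem h22)
    rwa [mul_inv_cancel_right, mul_inv_cancel_right] at this)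
  rw [(CC).orb_zero, one_mul] at c7 ⊢
  haveI := charTwo S
  have hcode : ∀ {t : K}, φ t = t → ∃ a, a < 2 ∧ enc (α : K) a = t := fun {t} ht => by
    rcases fix01 S ht with rfl | rfl
    · exact ⟨0, by norm_num, enc_zero _⟩
    · exact ⟨1, by norm_num, enc_one _⟩
  obtain ⟨a, ha, rfl⟩ := hcode hv
  obtain ⟨b, hb, rfl⟩ := hcode he
  by_cases hab : (a, b) = (0, 0)
  · simp only [Prod.mk.injEq] at hab
    rw [hab.1, hab.2, enc_zero, (CC).orb_zero, (CC).orb_zero, one_mul]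
  · obtain ⟨a', ha', b', hb', hne, hrun⟩ := chk_move a ha b hb hab (i % 3) (by
      have : i % 3 < 3 := Nat.mod_lt _ (by norm_num)
      interval_cases h : i % 3 <;> simp_all)
    have happ : ∀ {L L' : List Letter}, (∀ a ∈ L, LOK a) → (∀ a ∈ L', LOK a) → ∀ a ∈ L ++ L', LOK a :=
      fun h h' a ha => (List.mem_append.1 ha).elim (h a) (h' a)
    have l22 : ∀ a < 2, ∀ x ∈ orbL 22 a, LOK x := fun a ha => lok_orbL S (by decide) (by omega)
    have l23 : ∀ a < 2, ∀ x ∈ orbL 23 a, LOK x := fun a ha => lok_orbL S (by decide) (by omega)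
    have h := eq_of_run (hD := hD) S hrun (happ (lok_cL S _) (happ (l22 a ha) (l23 b hb)))
      (happ (l22 a' ha') (happ (l23 b' hb') (lok_cL S _)))
    simp only [ev'_append, ev_cL S] at h
    rw [ev_orbL S (by decide) (by omega), ev_orbL S (by decide) (by omega), ev_orbL S (by decide) (by omega),
      ev_orbL S (by decide) (by omega), ← pow_eq_pow_mod i (levi_facts (hD := hD) S).2.1] at h
    rw [c7.eq, ← mul_assoc (o 22 (enc (α : K) a'))] at h
    obtain ⟨-, -, -, -, h5, h6⟩ := six_inj hD (φ := φ) (x := 0) (y := 0) (z := 0) (w := 0)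
      (v := enc (α : K) a) (e := enc (α : K) b) (x' := 0) (y' := 0) (z' := 0) (w' := 0) (v' := enc (α : K) a')
      (e' := enc (α : K) b') (by simp only [(CC).orb_zero, one_mul]; exact mul_right_cancel h)
    exfalso
    apply hne
    have inj : ∀ p q : ℕ, p < 2 → q < 2 → enc (α : K) p = enc (α : K) q → q = p := fun p q hp hq e => by
      interval_cases p <;> interval_cases q <;> simp [enc_zero, enc_one] at e ⊢
    rw [inj a a' ha ha' h5, inj b b' hb hb' h6]

theorem umFree {k i : ℕ} (hk : k % 7 ≠ 0) (hi : i % 3 ≠ 0) {u : GL chevD4.Idx K} (hu : u ∈ UQm hD φ)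
    (hc : mm hD φ α k i * u = u * mm hD φ α k i) : u = 1 := by
  have h := upFree (hD := hD) S (k := 6 * k) (i := 2 * i) (by omega) (by omega) ((mem_UQm).1 hu) (by
    rw [← (conj_facts S k i).2]
    calc nL hD φ * mm hD φ α k i * (nL hD φ)⁻¹ * (nL hD φ * u * (nL hD φ)⁻¹) =
          nL hD φ * (mm hD φ α k i * u) * (nL hD φ)⁻¹ := by group
      _ = _ := by rw [hc]; group)
  exact conj_eq_one_iff.1 h

/-- The four elements are conjugate. -/
theorem mm_conj {k i : ℕ} (hk : k % 7 = 1 ∨ k % 7 = 6) (hi : i % 3 = 1 ∨ i % 3 = 2) :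
    ∃ a ∈ (CC).G0, mm hD φ α k i = a * mm hD φ α 1 1 * a⁻¹ := by
  have h1 := (conj_facts (hD := hD) S 1 1).1
  have h2 := (conj_facts (hD := hD) S 1 1).2
  rcases hk with hk | hk <;> rcases hi with hi | hi
  · exact ⟨1, one_mem _, by rw [one_mul, inv_one, mul_one]; exact mm_congr S hk hi⟩
  · exact ⟨sI hD φ, sI_G0 S, by rw [h1]; exact mm_congr S hk hi⟩
  · refine ⟨sI hD φ * nL hD φ, mul_mem (sI_G0 S) (nL_G0 S), ?_⟩
    rw [show sI hD φ * nL hD φ * mm hD φ α 1 1 * (sI hD φ * nL hD φ)⁻¹ =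
      sI hD φ * (nL hD φ * mm hD φ α 1 1 * (nL hD φ)⁻¹) * (sI hD φ)⁻¹ by group, h2, (conj_facts S _ _).1]
    exact mm_congr S (by omega) (by omega)
  · exact ⟨nL hD φ, nL_G0 S, by rw [h2]; exact mm_congr S (by omega) (by omega)⟩

/-- An element in `UQm ⟨c⟩ UQ` is a product of two conjugates. -/
theorem cover_cell [Finite K] {v u : GL chevD4.Idx K} (hv : v ∈ UQm hD φ) (hu : u ∈ UQ hD φ) (i : ℕ) :
    ∃ b ∈ (CC).G0, ∃ c ∈ (CC).G0,
      v * cE hD φ ^ i * u = b * mm hD φ α 1 1 * b⁻¹ * (c * mm hD φ α 1 1 * c⁻¹) := by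
  obtain ⟨a, b, ha, hb, hab⟩ : ∃ a b : ℕ, (a % 3 = 1 ∨ a % 3 = 2) ∧ (b % 3 = 1 ∨ b % 3 = 2) ∧
      (a + b) % 3 = i % 3 := by
    obtain h | h | h : i % 3 = 0 ∨ i % 3 = 1 ∨ i % 3 = 2 := by omega
    · exact ⟨1, 2, by norm_num, by norm_num, by rw [h]⟩
    · exact ⟨2, 2, by norm_num, by norm_num, by rw [h]⟩
    · exact ⟨1, 1, by norm_num, by norm_num, by rw [h]⟩
  have e : cE hD φ ^ i = mm hD φ α 1 a * mm hD φ α 6 b := by
    rw [mm_mul S, mm_congr S (k := 1 + 6) (l := 0) (i := a + b) (j := i) rfl hab, mm, pow_zero, torG_one, one_mul]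
  have := Fintype.ofFinite K
  classical
  obtain ⟨⟨x, hx, ex⟩, -⟩ := exists_conj_translate (A := UQm hD φ) (m := mm hD φ α 1 a)
    (fun y hy => (mm_norm_UQm S 1 a).1 hy) (fun y hy => (mm_norm_UQm S 1 a).2 hy)
    (fun y hy => umFree S (by norm_num) (by omega) hy) hv
  obtain ⟨-, y, hy, ey⟩ := exists_conj_translate (A := UQ hD φ) (m := mm hD φ α 6 b)
    (fun y hy => (Subgroup.mem_normalizer_iff.1 (mm_norm_UQ S 6 b) y).1 hy)
    (fun y hy => by
      have := (Subgroup.mem_normalizer_iff.1 (inv_mem (mm_norm_UQ (hD := hD) S 6 b)) y).1 hy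
      rwa [inv_inv] at this)
    (fun y hy => upFree S (by norm_num) (by omega) hy) hu
  obtain ⟨a1, ha1, e1⟩ := mm_conj (hD := hD) S (k := 1) (i := a) (Or.inl rfl) ha
  obtain ⟨a2, ha2, e2⟩ := mm_conj (hD := hD) S (k := 6) (i := b) (Or.inr rfl) hb
  have hUQ : UQ hD φ ≤ (CC).G0 := ((CC).rgd.Udel_le_Upos _).trans (Upos_le_G0 hD φ)
  have hxG : x ∈ (CC).G0 := by
    have := mul_mem (mul_mem (inv_mem (nL_G0 S)) (hUQ ((mem_UQm).1 hx))) (nL_G0 S)
    convert this using 1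
    group
  refine ⟨x * a1, mul_mem hxG ha1, y * a2, mul_mem (hUQ hy) ha2, ?_⟩
  rw [e, show v * (mm hD φ α 1 a * mm hD φ α 6 b) * u = (v * mm hD φ α 1 a) * (mm hD φ α 6 b * u) by group,
    ← ex, ← ey, e1, e2]
  group

theorem lok_radL {R ts : List ℕ} (hR : ∀ r ∈ R, r ∈ d4Twist.reps) (ht : ∀ e ∈ R.zip ts, e.2 < 8) :
    ∀ a ∈ radL R ts, LOK a := fun a ha => by
  obtain ⟨e, he, h⟩ := List.mem_flatMap.1 ha
  exact lok_orbL S (hR _ (List.of_mem_zip he).1) (ht e he) a h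

theorem radL_mem {P : Subgroup (GL chevD4.Idx K)} {R ts : List ℕ} (hR : ∀ r ∈ R, r ∈ d4Twist.reps)
    (hf : ∀ e ∈ R.zip ts, e.2 < 8 ∧ (d4Twist.len e.1 = 1 → e.2 < 2))
    (hP : ∀ r ∈ R, ∀ t : K, (d4Twist.len r = 3 ∨ φ t = t) → o r t ∈ P) :
    ev' hD φ α (radL R ts) ∈ P := by
  rw [radL]
  have key : ∀ r ∈ d4Twist.reps, d4Twist.len r = 3 ∨ d4Twist.len r = 1 := by decide
  suffices ∀ L : List (ℕ × ℕ), (∀ e ∈ L, e ∈ R.zip ts) → ev' hD φ α (L.flatMap fun e => orbL e.1 e.2) ∈ P from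
    this _ fun e he => he
  intro L hL
  induction L with
  | nil => exact one_mem _
  | cons e L ih =>
    obtain ⟨h8, hlen⟩ := hf e (hL e (by simp))
    have hmem := (List.of_mem_zip (hL e (by simp))).1
    rw [List.flatMap_cons, ev'_append, ev_orbL S (hR _ hmem) h8]
    refine mul_mem (hP _ hmem _ ?_) (ih fun x hx => hL x (List.mem_cons_of_mem _ hx))
    rcases key _ (hR _ hmem) with h | h
    · exact Or.inl h
    · exact Or.inr (enc_fix S (hlen h))

end Cfsg.Agent.D4Thompson.Two
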