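/-
The covering of the smallest triality group by products of two conjugates of an element of order 21.

* `exists_outside`: a nontrivial element has a conjugate outside the second parabolic;
* `exists_two`: the theorem for the field with eight elements.
-/
import Cfsg.Agent.EqLemmas
import Cfsg.Agent.Lib.D4Thompson.Two

set_option autoImplicit false
set_option linter.unusedSectionVars false
set_option maxRecDepth 100000

namespace Cfsg.Agent.D4Thompson.Two

open Cfsg.Lie Cfsg.Lie.ChevalleyDatum Cfsg.Agent.Chev Cfsg.Agent.TwistE6D4 Cfsg.Agent.TwistE6D4.D4 Matrix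

variable {K : Type*} [Field K] (hD : Good chevD4) (φ : K →+* K)

local notation "CC" => ctxD4 hD φ
local notation "o" => orb hD d4Twist φ

/-- A product of two conjugates of `x` in the group. -/
def Cov (x g : GL chevD4.Idx K) : Prop := ∃ b ∈ (CC).G0, ∃ c ∈ (CC).G0, g = b * x * b⁻¹ * (c * x * c⁻¹)

theorem Cov.conj {x g : GL chevD4.Idx K} (h : Cov hD φ x g) {k : GL chevD4.Idx K} (hk : k ∈ (CC).G0) :
    Cov hD φ x (k * g * k⁻¹) := by
  obtain ⟨b, hb, c, hc, rfl⟩ := h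
  exact ⟨k * b, mul_mem hk hb, k * c, mul_mem hk hc, by group⟩

theorem seven_root {t : K} (h2 : (2 : K) = 0) (h7 : t ^ 7 = 1) (h1 : t ≠ 1) :
    t ^ 3 = t + 1 ∨ (t ^ 5) ^ 3 = t ^ 5 + 1 := by
  by_cases h : t ^ 3 = t + 1
  · exact Or.inl h
  right
  have h' : t ^ 3 + t ^ 2 + 1 = 0 := by
    have e : (t - 1) * ((t ^ 3 - t - 1) * (t ^ 3 + t ^ 2 + 1)) = 0 := by
      linear_combination h7 + (1 - t ^ 5) * h2
    rcases mul_eq_zero.1 e with e1 | e1
    · exact absurd (sub_eq_zero.1 e1) h1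
    rcases mul_eq_zero.1 e1 with e2 | e2
    · exact absurd (by linear_combination e2) h
    · exact e2
  linear_combination (t * (t ^ 7 + 1)) * h7 + (-t ^ 2 + t - 1) * h' + t ^ 2 * h2

theorem exists_outside (hs : IsSimpleGroup ↥(CC).G0) {α : Kˣ} (S : Setting φ α) {g : GL chevD4.Idx K}
    (hg : g ∈ (CC).G0) (h1 : g ≠ 1) :
    ∃ k ∈ (CC).G0, k * g * k⁻¹ ∉ (CC).rgd.cellSubgroup (1 : Fin 2) := by
  by_contra hcon
  push Not at hcon
  let N : Subgroup ↥(CC).G0 :=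
    { carrier := {x | ∀ k : ↥(CC).G0, ((k * x * k⁻¹ : ↥(CC).G0) : GL chevD4.Idx K) ∈
        (CC).rgd.cellSubgroup (1 : Fin 2)}
      one_mem' := fun k => by
        rw [mul_one, mul_inv_cancel, Subgroup.coe_one]; exact one_mem _
      mul_mem' := fun {x y} hx hy k => by
        rw [show k * (x * y) * k⁻¹ = (k * x * k⁻¹) * (k * y * k⁻¹) by group, Subgroup.coe_mul]
        exact mul_mem (hx k) (hy k)
      inv_mem' := fun {x} hx k => by
        rw [show k * x⁻¹ * k⁻¹ = (k * x * k⁻¹)⁻¹ by group, Subgroup.coe_inv]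
        exact inv_mem (hx k) }
  have hN : N.Normal := ⟨fun x hx k k' => by
    rw [show k' * (k * x * k⁻¹) * k'⁻¹ = (k' * k) * x * (k' * k)⁻¹ by group]
    exact hx _⟩
  rcases hN.eq_bot_or_eq_top with h | h
  · have : (⟨g, hg⟩ : ↥(CC).G0) ∈ N := fun k => hcon k k.2
    rw [h, Subgroup.mem_bot] at this
    exact h1 (congrArg Subtype.val this)
  · have hnG : (CC).rgd.n 0 ∈ (CC).G0 := by
      rw [← (CC).rgd_G]; exact (CC).rgd.n_mem_G 0
    have hn : (⟨(CC).rgd.n 0, hnG⟩ : ↥(CC).G0) ∈ N := h ▸ Subgroup.mem_top _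
    have h2 := hn 1
    simp only [one_mul, inv_one, mul_one] at h2
    obtain ⟨-, -, -, -, -, -, hsq, -⟩ := levi_facts (hD := hD) S
    have hN0 : (CC).rgd.n 0 ∈ (CC).rgd.N := (CC).rgd.n_mem_N 0
    rcases h2 with hB | hC
    · have hH : (CC).rgd.nw [0] ∈ (CC).rgd.H := by
        rw [← (CC).rgd.B_inf_N]
        exact Subgroup.mem_inf.2 ⟨by simpa using hB, (CC).rgd.nw_mem_N _⟩
      exact absurd (((CC).nw_mem_H_iff _).1 hH) (show ¬ posW d4Twist d4Node [0] by decide +kernel)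
    · obtain ⟨b, hb, b', hb', e⟩ := DoubleCoset.mem_doubleCoset.1 hC
      have hH := (CC).rgd.mem_H_of_eq hN0 ((CC).rgd.n_mem_N 1) (one_mem _) (one_mem _) hb hb'
        (by rw [one_mul, mul_one]; exact e)
      rw [show ((CC).rgd.n 0)⁻¹ = (CC).rgd.n 0 from inv_eq_of_mul_eq_one_right hsq] at hH
      exact absurd (((CC).nw_mem_H_iff [0, 1]).1 (by simpa using hH))
        (show ¬ posW d4Twist d4Node [0, 1] by decide +kernel)

theorem umR_pos : ∀ r ∈ umR, r ∈ d4Twist.reps ∧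
    0 < d4Twist.ht (wW d4Twist d4Node wL0 r) ∧ wW d4Twist d4Node wL0 r ≠ 14 := by decide +kernel

theorem orb_UQm {r : ℕ} (hr : r ∈ umR) {t : K}
    (h : o r t ∈ (CC).rgd.U (⟨r, (umR_pos r hr).1⟩ : {r // r ∈ d4Twist.reps})) : o r t ∈ UQm hD φ := by
  set s : {r // r ∈ d4Twist.reps} := ⟨r, (umR_pos r hr).1⟩ with hs
  rw [mem_UQm]
  obtain ⟨hlt, hval⟩ := (CC).ww_val wL0 s
  have hmem := (CC).rgd.conj_U_mem ((CC).rgd.map_conj_U wL0 s) h
  refine (CC).rgd.U_le_span (A := {s | (CC).rgd.pos s ∧ s ≠ (CC).rgd.simple (1 : Fin 2)})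
    ⟨((CC).pos_ww wL0 s).2 (umR_pos r hr).2.1, fun e => ?_⟩ hmem
  have e' := congrArg Subtype.val e
  rw [hval] at e'
  obtain ⟨-, i, -, hi⟩ := (CC).repOf_spec hlt
  rw [e'] at hi
  apply (umR_pos r hr).2.2
  rw [← hi]
  show d4Twist.rho^[i] (chevD4.simple (d4Node 1).val) = 14
  rw [show chevD4.simple (d4Node 1).val = 14 by decide +kernel]
  exact Function.iterate_fixed (show d4Twist.rho 14 = 14 by decide) i

variable {hD φ}

/-- The certificates applied at one root. -/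
theorem cert_apply [Finite K] {α β : Kˣ} (Sa : Setting φ α) (Sb : Setting φ β) {w : List (Fin 2)}
    (hw : w ∈ D4.words) (hw0 : w ≠ []) (hw1 : w ≠ [1]) {k : ℕ} (hk : k ∈ [0, 1, 3]) (hodd : Odd0 w → k = 0)
    {s : ℕ} (hs : s < 2) {u : GL chevD4.Idx K} (hu : u ∈ UQ hD φ) :
    Cov hD φ (mm hD φ α 1 1) (torG φ (β ^ k) 1 * (CC).rgd.nw w * o 14 (enc (β : K) s) * u) := by
  obtain ⟨⟨w', k', s', x, v, i, u'⟩, hc, rfl, rfl, rfl⟩ := chk_find w hw hw0 hw1 s hs k hk hodd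
  obtain ⟨-, hi, hf⟩ := cert_fine _ hc
  change s' < 2 at hs
  have hfx := hf (upR, x) (by simp)
  have hfv := hf (umR, v) (by simp)
  have hfu := hf (upR, u') (by simp)
  have hup : ∀ r ∈ upR, r ∈ d4Twist.reps := by decide
  have hum : ∀ r ∈ umR, r ∈ d4Twist.reps := fun r hr => (umR_pos r hr).1
  have hlx := lok_radL Sb hup fun e he => (hfx e he).1
  have hlv := lok_radL Sb hum fun e he => (hfv e he).1
  have hlu := lok_radL Sb hup fun e he => (hfu e he).1
  have h14 := lok_orbL Sb (φ := φ) (r := 14) (t := s') (by decide) (by omega)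
  have happ : ∀ {L L' : List Letter}, (∀ a ∈ L, LOK a) → (∀ a ∈ L', LOK a) → ∀ a ∈ L ++ L', LOK a :=
    fun h h' a ha => (List.mem_append.1 ha).elim (h a) (h' a)
  have e := eq_of_run (hD := hD) Sb (cert_ok _ hc)
    (happ (happ hlx fun a ha => (List.mem_cons.1 ha).elim (fun e => e ▸ trivial) (lok_word Sb w' a)) h14)
    (happ (happ hlv (lok_cL Sb i)) hlu)
  simp only [lhsL, rhsL, ev'_append, ev'_cons, ev_word Sb, ev_cL Sb, ev_orbL Sb (show 14 ∈ d4Twist.reps by decide)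
    (show s' < 8 by omega)] at e
  change ev' hD φ β (radL upR x) * (torG φ (β ^ k') 1 * (CC).rgd.nw w') * o 14 (enc (β : K) s') =
    ev' hD φ β (radL umR v) * cE hD φ ^ i * ev' hD φ β (radL upR u') at e
  have mx : ev' hD φ β (radL upR x) ∈ UQ hD φ :=
    radL_mem Sb hup hfx fun r hr t ht => orb_UQ hr (orb1_U Sb r (hup r hr) ht)
  have mv : ev' hD φ β (radL umR v) ∈ UQm hD φ :=
    radL_mem Sb hum hfv fun r hr t ht => orb_UQm hD φ hr (orb1_U Sb r (hum r hr) ht)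
  have mu : ev' hD φ β (radL upR u') ∈ UQ hD φ :=
    radL_mem Sb hup hfu fun r hr t ht => orb_UQ hr (orb1_U Sb r (hup r hr) ht)
  set X := ev' hD φ β (radL upR x) with hX
  have hXG : X ∈ (CC).G0 := Upos_le_G0 hD φ ((CC).rgd.Udel_le_Upos _ mx)
  have hcov : Cov hD φ (mm hD φ α 1 1)
      (ev' hD φ β (radL umR v) * cE hD φ ^ i * (ev' hD φ β (radL upR u') * u * X⁻¹)) :=
    cover_cell Sa mv (mul_mem (mul_mem mu hu) (inv_mem mx)) i
  convert hcov.conj hD φ (inv_mem hXG) using 1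
  rw [show X⁻¹ * (ev' hD φ β (radL umR v) * cE hD φ ^ i * (ev' hD φ β (radL upR u') * u * X⁻¹)) * X⁻¹⁻¹ =
    X⁻¹ * (ev' hD φ β (radL umR v) * cE hD φ ^ i * ev' hD φ β (radL upR u')) * u by group, ← e]
  group

theorem cover_outside [Fintype K] (hK : Fintype.card K = 8) {α : Kˣ} (S : Setting φ α) {g : GL chevD4.Idx K}
    (hg : g ∈ (CC).G0) (hout : g ∉ (CC).rgd.cellSubgroup (1 : Fin 2)) : Cov hD φ (mm hD φ α 1 1) g := by
  haveI := charTwo S
  obtain ⟨v, hv, h, hh, w, hw, u, hu, e, -⟩ := exists_bruhat hD φ hg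
  have hw0 : w ≠ [] := by
    rintro rfl
    rw [RGD.RootData.nw_nil, mul_one] at e
    exact hout (Or.inl (e ▸ mul_mem (mul_mem ((CC).rgd.Upos_le_B hv) ((CC).rgd.H_le_B hh)) ((CC).rgd.Upos_le_B hu)))
  have hw1 : w ≠ [1] := by
    rintro rfl
    rw [RGD.RootData.nw_cons, RGD.RootData.nw_nil, mul_one] at e
    exact hout (Or.inr (DoubleCoset.mem_doubleCoset.2 ⟨v * h, mul_mem ((CC).rgd.Upos_le_B hv) ((CC).rgd.H_le_B hh),
      u, (CC).rgd.Upos_le_B hu, e⟩))
  obtain ⟨y, hy, hyh⟩ := hh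
  obtain ⟨l, c, hc, rfl⟩ := tor_surj hy
  obtain rfl : c = 1 := Units.ext ((fix01 S hc).resolve_left c.ne_zero)
  change torG φ l 1 = h at hyh
  subst hyh
  obtain ⟨k, hk, a, ha, hka⟩ := (CC).rgd.exists_Upos (i := (1 : Fin 2)) (inv_mem (mul_mem hu hv))
  obtain ⟨s, hs, ea⟩ : ∃ s, s < 2 ∧ a⁻¹ = o 14 (enc (α : K) s) := by
    have ha' : a⁻¹ ∈ (CC).Uo (chevD4.simple (d4Node 1).val) := inv_mem ha
    rw [show chevD4.simple (d4Node 1).val = 14 by decide +kernel] at ha'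
    obtain ⟨t, ht, e⟩ := (CC).mem_Uo (show 14 ∈ d4Twist.reps by decide) ha'
    rcases fix01 S (show φ t = t by simpa [show d4Twist.len 14 = 1 by decide] using ht) with rfl | rfl
    · exact ⟨0, by norm_num, by rw [enc_zero]; exact e⟩
    · exact ⟨1, by norm_num, by rw [enc_one]; exact e⟩
  have hvG : v ∈ (CC).G0 := Upos_le_G0 hD φ hv
  suffices key : Cov hD φ (mm hD φ α 1 1) (torG φ l 1 * (CC).rgd.nw w * a⁻¹ * k⁻¹) by
    have e2 : g = v * (torG φ l 1 * (CC).rgd.nw w * a⁻¹ * k⁻¹) * v⁻¹ := by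
      rw [mul_assoc _ a⁻¹, ← _root_.mul_inv_rev, ← hka, inv_inv, e]
      group
    rw [e2]
    exact key.conj hD φ hvG
  by_cases hodd : Odd0 w
  · obtain ⟨j, hj, rfl⟩ := exists_exponent S hK l
    set T := torG φ (α ^ (4 * j % 7)) 1 with hT
    have hTH : T ∈ (CC).rgd.H := torG_mem_H hD φ S.h3 _ (by simp)
    have hTi : T⁻¹ = torG φ (α ^ (3 * j % 7)) 1 := by
      refine inv_eq_of_mul_eq_one_right ?_
      rw [hT, torG_mul, ← pow_add, one_mul, ← pow_mod7 S α, show (4 * j % 7 + 3 * j % 7) % 7 = 0 by omega,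
        pow_zero, torG_one]
    have hrun := eq_of_run (hD := hD) S (chk_shift w hw hodd j hj)
      (fun a ha => by
        rcases List.mem_cons.1 ha with rfl | ha
        · trivial
        · rcases List.mem_append.1 ha with h | h
          · exact lok_word S w a h
          · simp at h; subst h; trivial)
      (fun a ha => (List.mem_cons.1 ha).elim (fun e => e ▸ trivial) (lok_word S w a))
    simp only [ev'_cons, ev'_append, ev_word S, ev'_nil, mul_one] at hrun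
    change T * ((CC).rgd.nw w * torG φ (α ^ (3 * j % 7)) 1) = torG φ (α ^ j) 1 * (CC).rgd.nw w at hrun
    rw [← hTi] at hrun
    have hcm : T⁻¹ * a⁻¹ = a⁻¹ * T⁻¹ := by
      rw [hTi, ea]
      rcases (show s = 0 ∨ s = 1 by omega) with rfl | rfl
      · rw [enc_zero, (CC).orb_zero, one_mul, mul_one]
      · rw [enc_one]; exact ((levi_facts (hD := hD) S).1 _).1.eq
    have e3 : torG φ (α ^ j) 1 * (CC).rgd.nw w * a⁻¹ * k⁻¹ =
        T * (torG φ (α ^ 0) 1 * (CC).rgd.nw w * a⁻¹ * (T⁻¹ * k⁻¹ * T⁻¹⁻¹)) * T⁻¹ := by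
      rw [← hrun, pow_zero, torG_one, one_mul, show T * ((CC).rgd.nw w * T⁻¹) * a⁻¹ * k⁻¹ =
        T * (CC).rgd.nw w * (T⁻¹ * a⁻¹) * k⁻¹ by group, hcm]
      group
    rw [e3, ea]
    exact (cert_apply S S hw hw0 hw1 (by simp) (fun _ => rfl) hs
      ((CC).rgd.H_conj_span _ (inv_mem hTH) _ (inv_mem hk))).conj hD φ ((CC).H0_le_G0 hTH)
  · have hcases : ∃ β : Kˣ, ∃ j ∈ [0, 1, 3], Setting φ β ∧ β ^ j = l := by
      by_cases hl : l = 1
      · exact ⟨α, 0, by simp, S, by rw [pow_zero, hl]⟩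
      have hl7 := unit_seven S l
      rcases seven_root S.h2 (by simpa using congrArg Units.val hl7) (fun h => hl (Units.ext h)) with h | h
      · exact ⟨l, 1, by simp, { S with root := h }, pow_one l⟩
      · exact ⟨l ^ 5, 3, by simp, { S with root := by simpa using h },
          by rw [← pow_mul, show 5 * 3 = 7 * 2 + 1 by norm_num, pow_add, pow_mul, hl7, one_pow, one_mul, pow_one]⟩
    obtain ⟨β, j, hj, Sb, rfl⟩ := hcases
    have eb : enc (α : K) s = enc (β : K) s := by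
      rcases (show s = 0 ∨ s = 1 by omega) with rfl | rfl <;> simp [enc_zero, enc_one]
    rw [ea, eb]
    exact cert_apply S Sb hw hw0 hw1 hj (fun h => absurd h hodd) hs (inv_mem hk)

theorem exists_two [Fintype K] (hK : Fintype.card K = 8) (hpow : ∀ t : K, φ t = t ^ 2)
    (h3 : ∀ t, φ (φ (φ t)) = t) (h2 : (2 : K) = 0) (hs : IsSimpleGroup ↥(CC).G0) :
    ∃ x : ↥(CC).G0, ¬ 2 ∣ orderOf x ∧ ∀ g : ↥(CC).G0, g ≠ 1 →
      ∃ u v : ↥(CC).G0, g = (u * x * u⁻¹) * (v * x * v⁻¹) := by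
  classical
  have h7 : ∀ t : K, t ≠ 0 → t ^ 7 = 1 := fun t ht => by
    have := FiniteField.pow_card_sub_one_eq_one t ht
    rwa [hK] at this
  obtain ⟨t, ht0, ht1⟩ : ∃ t : K, t ≠ 0 ∧ t ≠ 1 := by
    by_contra hcon
    push Not at hcon
    have : Finset.univ ⊆ ({0, 1} : Finset K) := fun t _ => by
      by_cases h : t = 0 <;> simp [h, hcon t]
    have := (Finset.card_le_card this).trans Finset.card_le_two
    rw [Finset.card_univ, hK] at this
    omega
  obtain ⟨α, S⟩ : ∃ α : Kˣ, Setting φ α := by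
    rcases seven_root h2 (h7 t ht0) ht1 with h | h
    · exact ⟨Units.mk0 t ht0, ⟨h2, hpow, h3, h, h7⟩⟩
    · exact ⟨Units.mk0 (t ^ 5) (pow_ne_zero _ ht0), ⟨h2, hpow, h3, h, h7⟩⟩
  refine ⟨⟨mm hD φ α 1 1, mm_G0 S 1 1⟩, fun hdvd => ?_, fun g hg => ?_⟩
  · have h1 : (⟨mm hD φ α 1 1, mm_G0 S 1 1⟩ : ↥(CC).G0) ^ 21 = 1 := by
      apply Subtype.ext
      show mm hD φ α 1 1 ^ 21 = 1
      rw [mm_pow S, mm_congr S (k := 1 * 21) (i := 1 * 21) (l := 0) (j := 0) rfl rfl, mm_zero S]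
    have := hdvd.trans (orderOf_dvd_of_pow_eq_one h1)
    norm_num at this
  · obtain ⟨k, hk, hout⟩ := exists_outside hD φ hs S g.2 (fun h => hg (Subtype.ext h))
    have h := (cover_outside hK S (mul_mem (mul_mem hk g.2) (inv_mem hk)) hout).conj hD φ (inv_mem hk)
    rw [show k⁻¹ * (k * (g : GL chevD4.Idx K) * k⁻¹) * k⁻¹⁻¹ = g by group] at h
    obtain ⟨b, hb, c, hc, e⟩ := h
    exact ⟨⟨b, hb⟩, ⟨c, hc⟩, Subtype.ext (by simpa using e)⟩

end Cfsg.Agent.D4Thompson.Two
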